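import Cfsg.Agent.CyclicIsometry.Shape
import Cfsg.Agent.Characters.Induction
import Cfsg.Agent.Characters.Linear
import Cfsg.Agent.Characters.Orthogonality

/-!
# The labelled data of a group with a self-centralizing cyclic subgroup of index prime to p

`F` has a cyclic subgroup `Q` of order `p ^ a` with centralizer `Q` and index `e ∣ p - 1`.
-/

set_option autoImplicit false
set_option linter.unusedSectionVars false
set_option linter.style.haveILetI false
set_option maxHeartbeats 800000

namespace CfsgLib.CyclicIsometry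

open Cfsg
open scoped ComplexConjugate

universe u

variable {p : ℕ} [hp : Fact p.Prime] {a e : ℕ} {F : Type u} [Group F] [Fintype F]
  {Q : Subgroup F}

/-- A subgroup of order `p ^ a` and index dividing `p - 1` is normal. -/
theorem normal_of_card (hF : Nat.card F = p ^ a * e) (hQcard : Nat.card Q = p ^ a)
    (hep : e ∣ p - 1) : Q.Normal := by
  have he : 0 < e := Nat.pos_of_ne_zero fun h => by
    have := Nat.card_pos (α := F)
    rw [hF, h, mul_zero] at this
    omega
  have hidx : Q.index = e := by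
    have := Q.card_mul_index
    rw [hQcard, hF] at this
    exact Nat.eq_of_mul_eq_mul_left (pow_pos hp.out.pos a) this
  have hpe : ¬ p ∣ Q.index := fun h => by
    rw [hidx] at h
    have := Nat.le_of_dvd (by have := hp.out.two_le; omega) (h.trans hep)
    have := hp.out.two_le
    omega
  let P : Sylow p F := (IsPGroup.of_card (G := Q) hQcard : IsPGroup p Q).toSylow hpe
  have h1 : Nat.card (Sylow p F) ∣ e := hidx ▸ P.card_dvd_index
  have h2 := card_sylow_modEq_one p F
  have h3 : Nat.card (Sylow p F) = 1 := by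
    have hle : Nat.card (Sylow p F) < p := by
      have h4 := Nat.le_of_dvd he h1
      have h5 := Nat.le_of_dvd (by have := hp.out.two_le; omega) hep
      have := hp.out.two_le
      omega
    have h5 : Nat.card (Sylow p F) % p = 1 % p := h2
    rwa [Nat.mod_eq_of_lt hle, Nat.mod_eq_of_lt hp.out.one_lt] at h5
  haveI : Subsingleton (Sylow p F) := (Nat.card_eq_one_iff_unique.1 h3).1
  have := P.normal_of_subsingleton
  exact this

open Classical in
/-- The data, with the members not containing `Q` in their kernel among the exceptional labels. -/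
theorem exists_frobenius_data (M : Ideal AlgInt) [M.IsPrime] [NeZero (p ^ a)] (ha : 1 ≤ a)
    (hF : Nat.card F = p ^ a * e) (hQ : IsCyclic Q) (hQcard : Nat.card Q = p ^ a)
    (hQC : Subgroup.centralizer (Q : Set F) = Q) (hep : e ∣ p - 1) :
    ∃ d : CycData p M (p ^ a) e (Set.univ : Set (IrrCharacter F)),
      ∀ η : IrrCharacter F, (∃ x ∈ Q, (η : F → ℂ) x ≠ (η : F → ℂ) 1) →
        ∃ q, d.lab (Sum.inr q) = η := by
  haveI hQn : Q.Normal := normal_of_card hF hQcard hep
  haveI := hQ
  have he : 0 < e := Nat.pos_of_ne_zero fun h => by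
    have := Nat.card_pos (α := F)
    rw [hF, h, mul_zero] at this
    omega
  have hpe : ¬ p ∣ e := fun h => by
    have := Nat.le_of_dvd (by have := hp.out.two_le; omega) (h.trans hep)
    have := hp.out.two_le
    omega
  have hidx : Q.index = e := by
    have := Q.card_mul_index
    rw [hQcard, hF] at this
    exact Nat.eq_of_mul_eq_mul_left (pow_pos hp.out.pos a) this
  -- coordinates on `Q`
  let em : Multiplicative (ZMod (p ^ a)) ≃* Q :=
    (AddEquiv.toMultiplicative (ZMod.ringEquivCongr hQcard.symm).toAddEquiv).trans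
      (zmodCyclicMulEquiv hQ)
  let lg : Q → ZMod (p ^ a) := fun x => (em.symm x).toAdd
  have lg_mul : ∀ x y : Q, lg (x * y) = lg x + lg y := fun x y => by simp [lg]
  have lg_one : lg 1 = 0 := by simp [lg]
  have lg_inj : Function.Injective lg := fun x y h =>
    em.symm.injective (Multiplicative.toAdd.injective h)
  let v : Q := em (Multiplicative.ofAdd 1)
  have lg_v : lg v = 1 := by simp [lg, v]
  have lg_pow : ∀ (x : Q) (k : ℕ), lg (x ^ k) = (k : ZMod (p ^ a)) * lg x := fun x k => by
    simp [lg, toAdd_pow]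
  have lg_surj : ∀ l : ZMod (p ^ a), lg (v ^ l.val) = l := fun l => by
    rw [lg_pow, lg_v, mul_one, ZMod.natCast_zmod_val]
  let ρ : F → ZMod (p ^ a) := fun g => lg ⟨g * v * g⁻¹, hQn.conj_mem _ v.2 g⟩
  have hρ : ∀ (g : F) (x : Q), lg ⟨g * x * g⁻¹, hQn.conj_mem _ x.2 g⟩ = ρ g * lg x := by
    intro g x
    obtain ⟨k, rfl⟩ : ∃ k : ℕ, v ^ k = x :=
      ⟨(lg x).val, lg_inj (by rw [lg_surj])⟩
    rw [show (⟨g * (v ^ k : Q) * g⁻¹, hQn.conj_mem _ (v ^ k : Q).2 g⟩ : Q) =
      (⟨g * v * g⁻¹, hQn.conj_mem _ v.2 g⟩ : Q) ^ k from Subtype.ext (by simp [conj_pow]),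
      lg_pow, lg_pow, lg_v, mul_one]
    exact mul_comm _ _
  have hρmul : ∀ g h, ρ (g * h) = ρ g * ρ h := fun g h => by
    rw [show ρ (g * h) = lg ⟨g * (h * v * h⁻¹) * g⁻¹,
      hQn.conj_mem _ (hQn.conj_mem _ v.2 h) g⟩ from congrArg lg (Subtype.ext (by simp [mul_assoc]))]
    exact hρ g ⟨h * v * h⁻¹, hQn.conj_mem _ v.2 h⟩
  have hρone : ρ 1 = 1 := by
    rw [← lg_v]
    exact congrArg lg (Subtype.ext (by simp))
  have hρQ : ∀ g, ρ g = 1 ↔ g ∈ Q := by
    intro g
    constructor
    · intro h
      rw [← hQC, Subgroup.mem_centralizer_iff]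
      intro x hx
      have h1 : (⟨g * x * g⁻¹, hQn.conj_mem _ hx g⟩ : Q) = ⟨x, hx⟩ :=
        lg_inj (by rw [hρ g ⟨x, hx⟩, h, one_mul])
      exact (mul_inv_eq_iff_eq_mul.1 (congrArg Subtype.val h1)).symm
    · intro hg
      rw [← lg_v]
      refine congrArg lg (Subtype.ext ?_)
      have hc : g ∈ Subgroup.centralizer (Q : Set F) := by rw [hQC]; exact hg
      show g * (v : F) * g⁻¹ = v
      rw [← Subgroup.mem_centralizer_iff.1 hc v v.2, mul_inv_cancel_right]
  let ρh : F →* ZMod (p ^ a) := ⟨⟨ρ, hρone⟩, hρmul⟩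
  have hρroot : ∀ g, ρ g ∈ roots (p ^ a) e := fun g => by
    rw [mem_roots, show ρ g ^ e = ρ (g ^ e) from (map_pow ρh g e).symm, hρQ, ← hidx]
    exact Subgroup.pow_index_mem Q g
  have hρfib : ∀ g h, ρ g = ρ h → g⁻¹ * h ∈ Q := fun g h hgh => by
    rw [← hρQ, hρmul, ← hgh, ← hρmul, inv_mul_cancel, hρone]
  -- the roots are the image
  have himg : (Finset.univ.image ρ).card = e := by
    rw [← hidx, Subgroup.index_eq_card, Nat.card_eq_fintype_card]
    let f : F ⧸ Q → ZMod (p ^ a) := Quotient.lift ρ fun g h hgh => by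
      have hq : g⁻¹ * h ∈ Q := QuotientGroup.leftRel_apply.1 hgh
      rw [← mul_inv_cancel_left g h, hρmul g, (hρQ _).2 hq, mul_one]
    rw [show Finset.univ.image ρ = Finset.univ.image f from by
      ext u
      simp only [Finset.mem_image, Finset.mem_univ, true_and]
      exact ⟨fun ⟨g, hg⟩ => ⟨(g : F ⧸ Q), hg⟩, fun ⟨c, hc⟩ => by
        obtain ⟨g, rfl⟩ := QuotientGroup.mk_surjective c
        exact ⟨g, hc⟩⟩,
      Finset.card_image_of_injective _ (by
        rintro ⟨g⟩ ⟨h⟩ hgh
        exact QuotientGroup.eq.2 (hρfib g h hgh)), Finset.card_univ]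
  have hsub : Finset.univ.image ρ ⊆ roots (p ^ a) e := fun u hu => by
    obtain ⟨g, -, rfl⟩ := Finset.mem_image.1 hu
    exact hρroot g
  have hgood : Good (p ^ a) e := good_of_le ha hpe (himg.symm.le.trans (Finset.card_le_card hsub))
  have hroots : Finset.univ.image ρ = roots (p ^ a) e :=
    Finset.eq_of_subset_of_card_le hsub (by rw [himg, hgood.card])
  have hfibre : ∀ u ∈ roots (p ^ a) e, (Finset.univ.filter fun g => ρ g = u).card = p ^ a := by
    intro u hu
    rw [← hroots] at hu
    obtain ⟨g₀, -, rfl⟩ := Finset.mem_image.1 hu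
    refine Eq.trans ?_ hQcard
    rw [Nat.card_eq_fintype_card, ← Fintype.card_subtype]
    exact Fintype.card_congr
      { toFun := fun g => ⟨g₀⁻¹ * g.1, hρfib g₀ g.1 g.2.symm⟩
        invFun := fun y => ⟨g₀ * y, by rw [hρmul, (hρQ _).2 y.2, mul_one]⟩
        left_inv := fun g => Subtype.ext (mul_inv_cancel_left _ _)
        right_inv := fun y => Subtype.ext (inv_mul_cancel_left _ _) }
  -- the induced members
  let η : Col (p ^ a) e → F → ℂ := fun q g => if h : g ∈ Q then emat (lg ⟨g, h⟩) q else 0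
  let lam : ZMod (p ^ a) → (Q →* ℂˣ) := fun j => MonoidHom.toHomUnits
    { toFun := fun x => (ZMod.stdAddChar (j * lg x) : ℂ)
      map_one' := by simp [lg_one]
      map_mul' := fun x y => by simp [lg_mul, mul_add, AddChar.map_add_eq_mul] }
  have hind : ∀ {j : ZMod (p ^ a)} (hj : j ≠ 0),
      η (colOf e hj) = Cfsg.indFun Q (fun x => (lam j x : ℂ)) := by
    intro j hj
    funext g
    by_cases hg : g ∈ Q
    · simp only [η, dif_pos hg, Cfsg.indFun]
      rw [← Equiv.sum_comp (Equiv.inv F) (fun x : F =>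
        Cfsg.extendByZero Q (fun x => (lam j x : ℂ)) (x⁻¹ * g * x))]
      have hx : ∀ x : F, Cfsg.extendByZero Q (fun x => (lam j x : ℂ)) ((x⁻¹)⁻¹ * g * x⁻¹) =
          (ZMod.stdAddChar (j * (ρ x * lg ⟨g, hg⟩)) : ℂ) := fun x => by
        have hm : (x⁻¹)⁻¹ * g * x⁻¹ ∈ Q := by rw [inv_inv]; exact hQn.conj_mem _ hg x
        rw [Characters.extendByZero_of_mem Q _ hm]
        show (ZMod.stdAddChar (j * lg ⟨_, hm⟩) : ℂ) = _
        rw [← hρ x ⟨g, hg⟩]
        congr 3
        exact Subtype.ext (by simp)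
      simp only [Equiv.inv_apply]
      rw [Finset.sum_congr rfl fun x _ => hx x, emat, hgood.sum_orb hj,
        ← Finset.sum_fiberwise_of_maps_to (fun x _ => hρroot x), Finset.mul_sum]
      refine Finset.sum_congr rfl fun u hu => ?_
      rw [Finset.sum_congr rfl (g := fun _ => (ZMod.stdAddChar (j * (u * lg ⟨g, hg⟩)) : ℂ))
          fun x hx => by rw [(Finset.mem_filter.1 hx).2],
        Finset.sum_const, hfibre u hu, nsmul_eq_mul, hQcard, ← mul_assoc,
        inv_mul_cancel₀ (Nat.cast_ne_zero.2 (NeZero.ne (p ^ a))), one_mul]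
      congr 1
      ring
    · rw [Characters.indFun_eq_zero_of_forall Q _ g fun x hx => hg (by
        have := hQn.conj_mem _ hx x
        simpa [mul_assoc] using this)]
      exact dif_neg hg
  have hchar : ∀ q, Cfsg.IsCharacter F (η q) := fun q => by
    obtain ⟨j, hj, rfl⟩ := exists_colOf q
    rw [hind hj]
    exact Characters.isCharacter_indFun Q
      (Characters.isCharacter_of_isIrr (Characters.isIrr_linChar (lam j)))
  have hinner : ∀ q q', Cfsg.classInner (η q) (η q') = if q = q' then 1 else 0 := by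
    intro q q'
    let Qe : ZMod (p ^ a) ≃ Q :=
      { toFun := fun l => em (Multiplicative.ofAdd l)
        invFun := lg
        left_inv := fun l => by simp [lg]
        right_inv := fun x => by simp [lg] }
    have hs : ∑ g : F, η q g * conj (η q' g) =
        ∑ l : ZMod (p ^ a), emat l q * conj (emat l q') := by
      rw [← Finset.sum_filter_add_sum_filter_not Finset.univ (fun g => g ∈ Q),
        Finset.sum_eq_zero (s := Finset.univ.filter fun g => ¬ g ∈ Q) fun g hg => by
          simp [η, (Finset.mem_filter.1 hg).2], add_zero,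
        Finset.sum_subtype (p := fun g => g ∈ Q) _ (by simp)]
      rw [← Qe.sum_comp]
      refine Finset.sum_congr rfl fun l _ => ?_
      simp only [η, dif_pos (Qe l).2, Subtype.coe_eta]
      rw [show lg (Qe l) = l from Qe.left_inv l]
    have hconj : ∀ l, conj (emat l q') = emat (-l) q' := fun l => by
      simp only [emat, map_sum]
      refine Finset.sum_congr rfl fun j _ => ?_
      rw [mul_neg, AddChar.map_neg_eq_conj]
    rw [Cfsg.classInner, hs]
    simp only [hconj]
    simp only [emat, Finset.sum_mul_sum]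
    rw [Finset.sum_comm, Finset.sum_congr rfl fun j _ => Finset.sum_comm,
      Finset.sum_congr rfl (g := fun j => ∑ j' ∈ q'.1, if j = j' then ((p ^ a : ℕ) : ℂ) else 0)
        fun j _ => Finset.sum_congr rfl fun j' _ => by
          rw [Finset.sum_congr rfl fun l _ => (AddChar.map_add_eq_mul ZMod.stdAddChar _ _).symm,
            Finset.sum_congr rfl fun l _ => by rw [show j * l + j' * -l = l * (j - j') by ring],
            AddChar.sum_mulShift _ (ZMod.isPrimitive_stdAddChar _)]
          simp [sub_eq_zero, ZMod.card]]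
    simp only [Finset.sum_ite_eq]
    rw [← Finset.sum_filter, Finset.sum_const]
    by_cases h : q = q'
    · subst h
      obtain ⟨j, hj, rfl⟩ := exists_colOf q
      rw [if_pos rfl, Finset.filter_true_of_mem fun _ h => h,
        show (colOf e hj).1.card = e by
          rw [Finset.card_eq_sum_ones, hgood.sum_orb hj, Finset.sum_const, smul_eq_mul, mul_one,
            hgood.card],
        nsmul_eq_mul, hF]
      push_cast
      have : (p : ℂ) ≠ 0 := Nat.cast_ne_zero.2 hp.out.ne_zero
      have : (e : ℂ) ≠ 0 := Nat.cast_ne_zero.2 he.ne'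
      field_simp
    · rw [if_neg h, Finset.filter_false_of_mem fun j hj hj' => h ?_, Finset.card_empty, zero_smul,
        mul_zero]
      obtain ⟨_, h1⟩ := (mem_col_iff he q).1 hj
      obtain ⟨_, h2⟩ := (mem_col_iff he q').1 hj'
      exact h1.symm.trans h2
  let ηi : Col (p ^ a) e → IrrCharacter F := fun q =>
    ⟨η q, Characters.isIrr_of_classInner_self (hchar q) (by rw [hinner, if_pos rfl])⟩
  have hηinj : Function.Injective ηi := fun q q' h => by
    by_contra hne
    have h1 := hinner q q'
    rw [← show η q = η q' from congrArg Subtype.val h, hinner, if_pos rfl, if_neg hne] at h1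
    exact one_ne_zero h1
  -- the linear members
  haveI : IsMulCommutative (F ⧸ Q) := ⟨⟨fun x y => by
    obtain ⟨g, rfl⟩ := QuotientGroup.mk_surjective x
    obtain ⟨h, rfl⟩ := QuotientGroup.mk_surjective y
    rw [← QuotientGroup.mk_mul, ← QuotientGroup.mk_mul, QuotientGroup.eq]
    exact hρfib _ _ (by rw [hρmul, hρmul, mul_comm])⟩⟩
  let hcomm : CommGroup (F ⧸ Q) := { (inferInstance : Group (F ⧸ Q)) with
    mul_comm := fun x y => IsMulCommutative.is_comm.comm x y }
  have hcard : Nat.card ((F ⧸ Q) →* ℂˣ) = e := by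
    letI := hcomm
    rw [CommGroup.card_monoidHom_of_hasEnoughRootsOfUnity, ← Subgroup.index_eq_card, hidx]
  haveI : Finite ((F ⧸ Q) →* ℂˣ) := Nat.finite_of_card_ne_zero (by omega)
  let eL : Fin e ≃ ((F ⧸ Q) →* ℂˣ) := (Finite.equivFinOfCardEq hcard).symm
  let li : Fin e → IrrCharacter F := fun k =>
    ⟨_, Characters.isIrr_linChar ((eL k).comp (QuotientGroup.mk' Q))⟩
  have hliQ : ∀ (k : Fin e) (x : F), x ∈ Q → (li k : F → ℂ) x = 1 := fun k x hx => by
    show ((eL k (QuotientGroup.mk' Q x) : ℂˣ) : ℂ) = 1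
    rw [show QuotientGroup.mk' Q x = 1 from (QuotientGroup.eq_one_iff x).2 hx, map_one]
    rfl
  have hliinj : Function.Injective li := fun k k' h => eL.injective (MonoidHom.ext fun x => by
    obtain ⟨g, rfl⟩ := QuotientGroup.mk_surjective x
    exact Units.ext (congrFun (congrArg Subtype.val h) g))
  have hη1 : ∀ q, η q 1 = (e : ℂ) := fun q => by
    obtain ⟨j, hj, rfl⟩ := exists_colOf q
    rw [hind hj, Characters.indFun_one, hidx, map_one, Units.val_one, mul_one]
  have hvne : (v : F) ≠ 1 := fun h => by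
    have h1 : v = 1 := Subtype.ext h
    haveI : Fact (1 < p ^ a) := ⟨Nat.one_lt_pow (by omega) hp.out.one_lt⟩
    rw [h1, lg_one] at lg_v
    exact zero_ne_one lg_v
  have hne : ∀ k q, li k ≠ ηi q := fun k q h => by
    have hall : ∀ x : Q, η q x = 1 := fun x => by
      rw [← hliQ k x x.2]
      exact (congrFun (congrArg Subtype.val h) x).symm
    have h1 : ∀ l, emat l q = 1 := fun l => by
      have := hall (v ^ l.val)
      simp only [η, dif_pos (v ^ l.val).2, Subtype.coe_eta] at this
      rwa [lg_surj] at this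
    have h2 : ∑ l, emat l q = 0 := by
      simp only [emat]
      rw [Finset.sum_comm]
      refine Finset.sum_eq_zero fun j hj => ?_
      rw [Finset.sum_congr rfl fun l _ => by rw [mul_comm j l],
        AddChar.sum_mulShift _ (ZMod.isPrimitive_stdAddChar _),
        if_neg ((mem_col_iff he q).1 hj).1, Nat.cast_zero]
    rw [Finset.sum_congr rfl fun l _ => h1 l, Finset.sum_const, Finset.card_univ, ZMod.card,
      nsmul_eq_mul, mul_one] at h2
    exact Nat.cast_ne_zero.2 (NeZero.ne (p ^ a)) h2
  let lab : Fin e ⊕ Col (p ^ a) e → IrrCharacter F := Sum.elim li ηi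
  have hlabinj : Function.Injective lab := hliinj.sumElim hηinj fun k q => hne k q
  have hall : Function.Surjective lab := by
    intro χ
    by_contra hno
    push Not at hno
    have hsum := Characters.sum_degree_sq (G := F)
    have hlab : ∑ i, (lab i : F → ℂ) 1 ^ 2 = (Nat.card F : ℂ) := by
      rw [Fintype.sum_sum_type]
      simp only [lab, Sum.elim_inl, Sum.elim_inr, ηi, hη1, hliQ _ 1 (one_mem Q), one_pow,
        Finset.sum_const, Finset.card_univ, Fintype.card_fin, nsmul_eq_mul, mul_one, hF]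
      have hc : (e : ℂ) * (Fintype.card (Col (p ^ a) e) : ℂ) = ((p ^ a : ℕ) : ℂ) - 1 := by
        rw [← Nat.cast_mul, hgood.card_col, Nat.cast_sub (NeZero.pos (p ^ a)), Nat.cast_one]
      push_cast at hc ⊢
      linear_combination (e : ℂ) * hc
    rw [← Finset.sum_filter_add_sum_filter_not Finset.univ (fun φ => φ ∈ Finset.univ.image lab),
      show (Finset.univ.filter fun φ => φ ∈ Finset.univ.image lab) = Finset.univ.image lab by
        ext; simp,
      Finset.sum_image fun _ _ _ _ h => hlabinj h, hlab, add_eq_left] at hsum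
    simp only [← Blocks.charDegree_cast, ← Nat.cast_pow, ← Nat.cast_sum, Nat.cast_eq_zero,
      Finset.sum_eq_zero_iff] at hsum
    exact Blocks.charDegree_ne_zero χ (pow_eq_zero_iff two_ne_zero |>.1
      (hsum χ (by simp [fun i => (hno i)])))
  refine ⟨⟨lab, ⟨fun _ _ => Set.mem_univ _, hlabinj.injOn, fun χ _ => ?_⟩, fun _ => 1, -1,
    fun _ => Or.inl rfl, Or.inr rfl, ?_, ?_⟩, ?_⟩
  · obtain ⟨i, hi⟩ := hall χ
    exact ⟨i, Set.mem_univ _, hi⟩
  · intro g hg q
    simp only [lab, Sum.elim_inl, Sum.elim_inr, Int.cast_neg, Int.cast_one, one_mul, neg_mul, ηi]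
    by_cases hgQ : g ∈ Q
    · have hg1 : g = 1 := by
        by_contra h
        refine hg ?_
        obtain ⟨k, -, hk⟩ := (Nat.dvd_prime_pow hp.out).1 (hQcard ▸ Subgroup.orderOf_dvd_natCard Q hgQ)
        rw [hk]
        exact dvd_pow_self p fun h0 => h (orderOf_eq_one_iff.1 (by rw [hk, h0, pow_zero]))
      subst hg1
      simp [hη1, hliQ _ 1 (one_mem Q)]
    · have hη0 : ∀ q', η q' g = 0 := fun q' => dif_neg hgQ
      have h := Characters.sum_degree_mul g
      rw [if_neg fun h' : g = 1 => hgQ (h' ▸ one_mem Q),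
        ← Fintype.sum_bijective lab ⟨hlabinj, hall⟩
          (fun i => (lab i : F → ℂ) 1 * (lab i : F → ℂ) g) _ (fun _ => rfl),
        Fintype.sum_sum_type] at h
      simp only [lab, Sum.elim_inl, Sum.elim_inr, ηi, hη0, mul_zero,
        Finset.sum_const_zero, add_zero, hliQ _ 1 (one_mem Q), one_mul] at h
      rw [hη0, neg_zero, zero_add]
      exact h
  · intro g hg
    have hgQ : g ∈ Q := by
      obtain ⟨P, hP⟩ : ∃ x : F, x ∈ Subgroup.zpowers g ∧ orderOf x = p :=
        ⟨g ^ (orderOf g / p), Subgroup.pow_mem _ (Subgroup.mem_zpowers g) _, by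
          rw [orderOf_pow_of_dvd (Nat.div_pos (Nat.le_of_dvd (orderOf_pos g) hg) hp.out.pos).ne'
            (Nat.div_dvd_of_dvd hg), Nat.div_div_self hg (orderOf_pos g).ne']⟩
      have hPQ : P ∈ Q := by
        have hcop : (Q.index).Coprime p := (hp.out.coprime_iff_not_dvd.2 (hidx ▸ hpe)).symm
        rw [← QuotientGroup.eq_one_iff, ← orderOf_eq_one_iff]
        refine Nat.eq_one_of_dvd_coprimes hcop ?_ ?_
        · rw [Subgroup.index_eq_card]; exact orderOf_dvd_natCard _
        · exact hP.2 ▸ orderOf_map_dvd (QuotientGroup.mk' Q) P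
      have hm : lg ⟨P, hPQ⟩ ≠ 0 := fun h => by
        have h1 : (⟨P, hPQ⟩ : Q) = 1 := lg_inj (h.trans lg_one.symm)
        have h2 := hP.2
        rw [show P = 1 from congrArg Subtype.val h1, orderOf_one] at h2
        exact hp.out.one_lt.ne h2
      rw [← hρQ]
      by_contra hne1
      refine hm ((hgood.free _ (hρroot g) hne1).mul_right_eq_zero.1 ?_)
      rw [sub_mul, one_mul, sub_eq_zero, ← hρ g ⟨P, hPQ⟩]
      refine congrArg lg (Subtype.ext ?_)
      obtain ⟨i, rfl⟩ := hP.1
      show g * g ^ i * g⁻¹ = g ^ i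
      group
    refine ⟨fun m => if m = lg ⟨g, hgQ⟩ then -1 else 0, ?_, fun m => ?_, fun q => ?_, fun k => ?_⟩
    · show (if (0 : ZMod (p ^ a)) = lg ⟨g, hgQ⟩ then (-1 : ℂ) else 0) = 0
      rw [if_neg]
      intro h
      refine hg.trans ?_ |> fun h' : p ∣ 1 => hp.out.not_dvd_one h'
      rw [show g = 1 from congrArg Subtype.val (lg_inj (h.symm.trans lg_one.symm) :
        (⟨g, hgQ⟩ : Q) = 1), orderOf_one]
    · have hC : Subgroup.centralizer ({g} : Set F) = Q := by
        refine le_antisymm (fun x hx => ?_) ?_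
        · rw [← hρQ]
          by_contra hne1
          have hm : lg ⟨g, hgQ⟩ ≠ 0 := fun h => hp.out.not_dvd_one <| by
            rw [show g = 1 from congrArg Subtype.val (lg_inj (h.trans lg_one.symm) :
              (⟨g, hgQ⟩ : Q) = 1), orderOf_one] at hg
            exact hg
          refine hm ((hgood.free _ (hρroot x) hne1).mul_right_eq_zero.1 ?_)
          rw [sub_mul, one_mul, sub_eq_zero, ← hρ x ⟨g, hgQ⟩]
          refine congrArg lg (Subtype.ext ?_)
          exact mul_inv_eq_iff_eq_mul.2 (Subgroup.mem_centralizer_singleton_iff.1 hx)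
        · intro x hx
          have hc : g ∈ Subgroup.centralizer (Q : Set F) := by rw [hQC]; exact hgQ
          exact Subgroup.mem_centralizer_singleton_iff.2 (Subgroup.mem_centralizer_iff.1 hc x hx)
      rw [hC, hQcard]
      simp only []
      split_ifs
      · refine ⟨Subring.neg_mem _ (Subring.one_mem (CfsgLib.Blocks.localRing M)), ?_⟩
        rw [mul_neg, mul_one, neg_div, div_self (Nat.cast_ne_zero.2 (NeZero.ne (p ^ a)))]
        exact Subring.neg_mem _ (Subring.one_mem (CfsgLib.Blocks.localRing M))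
      · rw [mul_zero, zero_div]
        exact ⟨Subring.zero_mem (CfsgLib.Blocks.localRing M),
          Subring.zero_mem (CfsgLib.Blocks.localRing M)⟩
    · simp [lab, ηi, η, dif_pos hgQ, ite_mul]
    · simp [lab, hliQ k g hgQ]
  · rintro χ ⟨x, hx, hne1⟩
    obtain ⟨i, rfl⟩ := hall χ
    cases i with
    | inl k => exact absurd ((hliQ k x hx).trans (hliQ k 1 (one_mem Q)).symm) hne1
    | inr q => exact ⟨q, rfl⟩

end CfsgLib.CyclicIsometry
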