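import Cfsg.Agent.CyclicIsometry.FromSetup
import Cfsg.Agent.CyclicIsometry.Frobenius
import Cfsg.Agent.CyclicNilpotent.Basic
import Cfsg.Agent.InertialQuotient.KleinIsometry

/-!
# The consequences of the structure of a block with cyclic defect group

Each theorem takes the existence of the setting of the block as the hypothesis `SetupExists`.
-/

set_option autoImplicit false
set_option linter.unusedSectionVars false
set_option linter.style.haveILetI false

namespace CfsgLib.CyclicIsometry

open Cfsg CfsgLib.BlockPairs CfsgLib.CyclicDefect CfsgLib.InertialQuotient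
open CfsgLib.Blocks (Res)

universe u v

variable {p : ℕ} [hp : Fact p.Prime] {M : Ideal AlgInt} [M.IsPrime] [CharP (Res M) p]
  [IsAlgClosed (Res M)]

/-- The setting of the block exists for each root. -/
def SetupExists {G : Type u} [Group G] [Fintype G] (B : Set (IrrCharacter G)) (P : Subgroup G) :
    Prop :=
  ∀ b : Set (IrrCharacter (Subgroup.centralizer (P : Set G))),
    Cfsg.IsInducedBlock M (Subgroup.centralizer (P : Set G)) b B → ∀ T : Subgroup G,
    (∀ g : G, g ∈ T ↔ (g ∈ Subgroup.normalizer (P : Set G) ∧ ∀ θ ∈ b,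
      ∀ θ' : IrrCharacter (Subgroup.centralizer (P : Set G)),
      (∀ h h' : Subgroup.centralizer (P : Set G), (h' : G) = g * h * g⁻¹ →
        (θ' : Subgroup.centralizer (P : Set G) → ℂ) h' =
          (θ : Subgroup.centralizer (P : Set G) → ℂ) h) → θ' ∈ b)) →
    ∃ S : Setup p M G B, p ^ S.a = Nat.card P ∧
      S.e = (Subgroup.centralizer (P : Set G)).relIndex T

theorem mem_stab_iff_forall {G : Type u} [Group G] [Fintype G] {P : Subgroup G}
    {b : Set (IrrCharacter (Subgroup.centralizer (P : Set G)))} (hb : Cfsg.IsPBlock M b) (g : G) :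
    g ∈ stab ⊤ P (sblk M (Subgroup.centralizer (P : Set G)) b) ↔
      (g ∈ Subgroup.normalizer (P : Set G) ∧ ∀ θ ∈ b,
        ∀ θ' : IrrCharacter (Subgroup.centralizer (P : Set G)),
        (∀ h h' : Subgroup.centralizer (P : Set G), (h' : G) = g * h * g⁻¹ →
          (θ' : Subgroup.centralizer (P : Set G) → ℂ) h' =
            (θ : Subgroup.centralizer (P : Set G) → ℂ) h) → θ' ∈ b) := by
  rw [← mem_stab_iff hb]
  refine and_congr_right fun hg => CfsgLib.CyclicNilpotent.stabilizesBlock_iff_forall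
    (normalizer_le_normalizer_centralizer P hg) fun θ => ?_
  obtain ⟨θ', hθ'⟩ := CfsgLib.RelMcKay.exists_conj (normalizer_le_normalizer_centralizer P hg) θ
  exact ⟨θ', hθ'.2⟩

theorem isInducedBlock_of_blockHas {G : Type u} [Group G] [Fintype G] {P : Subgroup G}
    (hP : IsPGroup p P) {b : Set (IrrCharacter (Subgroup.centralizer (P : Set G)))}
    {B : Set (IrrCharacter G)} (hb : Cfsg.IsPBlock M b) (hB : Cfsg.IsPBlock M B)
    (h : BlockHas p ⊤ (gblk M B) P (sblk M (Subgroup.centralizer (P : Set G)) b)) :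
    Cfsg.IsInducedBlock M (Subgroup.centralizer (P : Set G)) b B := by
  refine (isInducedBlock_iff_model hb hB).2 fun z hz => ?_
  have hcut : cut (Subgroup.centralizer (P : Set G)) z = br P z := ga_ext fun u => by
    rw [cut_coeff]
    split_ifs with hu
    · rw [br_coeff_mem P _ hu]
    · rw [br_coeff_not_mem P _ hu]
  rw [hcut]
  have hcb := isBlock_sblk (M := M) hb
  have hfb := isBlock_gblk (M := M) hB
  obtain ⟨n, hn⟩ := isNilpotent_omega hfb hz
  have hbrm : ∀ {w : GA (Res M) G}, w ∈ sub (⊤ : Subgroup G) ⊤ →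
      br P w ∈ sub (Subgroup.centralizer (P : Set G)) (Subgroup.centralizer (P : Set G)) :=
    fun hw => br_mem_sub_centralizer le_top hw
  refine omega_unique hcb (hbrm hz) ⟨n + 1, ?_⟩
  set d := z * gblk M B - omega ⊤ (gblk M B) z • gblk M B with hd
  have hdm : d ∈ sub (⊤ : Subgroup G) ⊤ :=
    sub_mem (mul_mem hz hfb.mem) (Subalgebra.smul_mem _ hfb.mem _)
  have hpow : ∀ m : ℕ, br P d ^ m = br P (d ^ m) := by
    intro m
    induction m with
    | zero => rw [pow_zero, pow_zero, br_one]
    | succ m ih =>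
      rw [pow_succ, pow_succ, ih, br_mul hP ((pow_mem hdm m).2.mono le_top) (hdm.2.mono le_top)]
  have heq : br P z * sblk M (Subgroup.centralizer (P : Set G)) b -
      omega ⊤ (gblk M B) z • sblk M (Subgroup.centralizer (P : Set G)) b =
      br P d * sblk M (Subgroup.centralizer (P : Set G)) b := by
    rw [hd, br_sub, br_mul hP (hz.2.mono le_top) (hfb.fixed.mono le_top), br_smul, sub_mul,
      smul_mul_assoc, mul_assoc, h.2]
  have hcomm : Commute (br P d) (sblk M (Subgroup.centralizer (P : Set G)) b) :=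
    sub_comm (hbrm hdm) hcb.mem
  rw [heq, hcomm.mul_pow, hpow, pow_succ d, hn, zero_mul, br_zero, zero_mul]

/-- Roots of a block of an overgroup of the normalizer and of the block it induces. -/
theorem exists_roots {G : Type u} [Group G] [Fintype G] {B : Set (IrrCharacter G)}
    (hB : Cfsg.IsPBlock M B) {P : Subgroup G} (hPD : Cfsg.IsDefectGroup p M B P) {H : Subgroup G}
    [Fintype H] (hNH : Subgroup.normalizer (P : Set G) ≤ H) {c : Set (IrrCharacter H)}
    (hcD : Cfsg.IsDefectGroup p M c (P.subgroupOf H)) (hc : Cfsg.IsInducedBlock M H c B) :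
    ∃ (b : Set (IrrCharacter (Subgroup.centralizer (P : Set G))))
      (b' : Set (IrrCharacter (Subgroup.centralizer ((P.subgroupOf H : Subgroup H) : Set H)))),
      Cfsg.IsInducedBlock M (Subgroup.centralizer (P : Set G)) b B ∧
      Cfsg.IsInducedBlock M (Subgroup.centralizer ((P.subgroupOf H : Subgroup H) : Set H)) b' c ∧
      (Subgroup.centralizer ((P.subgroupOf H : Subgroup H) : Set H)).relIndex
          (stab ⊤ (P.subgroupOf H)
            (sblk M (Subgroup.centralizer ((P.subgroupOf H : Subgroup H) : Set H)) b')) =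
        (Subgroup.centralizer (P : Set G)).relIndex
          (stab ⊤ P (sblk M (Subgroup.centralizer (P : Set G)) b)) := by
  haveI := Fintype.ofFinite (Subgroup.centralizer (P : Set G))
  have hinj := H.subtype_injective
  have hPH : P ≤ H := Subgroup.le_normalizer.trans hNH
  have hCH : Subgroup.centralizer (P : Set G) ≤ H :=
    (Subgroup.centralizer_le_normalizer _).trans hNH
  have hcb := isBlock_sblk (M := M) hc.1
  have hcd : IsDefectGrp p H (sblk M H c) P := (isDefectGroup_subgroupOf_iff hc.1 hPH).1 hcD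
  obtain ⟨eP, he⟩ := exists_blockHas hcb hPH hcd.2.1 hcd.2.2.1
  have hcent : cent H P = Subgroup.centralizer (P : Set G) := inf_eq_right.2 hCH
  have heb : IsBlock (Subgroup.centralizer (P : Set G)) eP := hcent ▸ he.1.2.2
  obtain ⟨b, hb, rfl⟩ := exists_eq_sblk (M := M) heb
  have hbc := isInducedBlockIn_of_blockHas hcd.2.1 hb hc.1 hCH hPH he
  have hbB : Cfsg.IsInducedBlock M (Subgroup.centralizer (P : Set G)) b B := by
    refine (isInducedBlock_iff_model hb hB).2 fun z hz => ?_
    have h2 := isInducedBlockIn_model hCH hbc (cut H z) (cut_mem_sub le_top hz)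
    rw [(isInducedBlock_iff_model hc.1 hB).1 hc z hz] at h2
    rw [← h2]
    congr 1
    exact ga_ext fun u => by
      rw [cut_coeff, cut_coeff, cut_coeff]
      by_cases hu : u ∈ Subgroup.centralizer (P : Set G)
      · rw [if_pos hu, if_pos hu, if_pos (hCH hu)]
      · rw [if_neg hu, if_neg hu]
  have hPm : (P.subgroupOf H).map H.subtype = P := Subgroup.map_subgroupOf_eq_of_le hPH
  have htop : (⊤ : Subgroup H).map H.subtype = H := by
    rw [← MonoidHom.range_eq_map, H.range_subtype]
  obtain ⟨e, hee⟩ := exists_emb_of_isSupp (φ := H.subtype) hinj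
    (z := sblk M (Subgroup.centralizer (P : Set G)) b)
    (heb.supp.mono (by rw [H.range_subtype]; exact hCH))
  have hbh : BlockHas p ⊤ (gblk M c) (P.subgroupOf H) e := by
    refine (blockHas_map_iff (φ := H.subtype) hinj).1 ?_
    rw [htop, hPm, hee, emb_gblk]
    exact he
  have heb' : IsBlock (Subgroup.centralizer ((P.subgroupOf H : Subgroup H) : Set H)) e :=
    isBlock_centralizer hbh.1
  obtain ⟨b', hb', rfl⟩ := exists_eq_sblk (M := M) heb'
  have hb'c := isInducedBlock_of_blockHas hbh.1.2.1 hb' hc.1 hbh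
  refine ⟨b, b', hbB, hb'c, ?_⟩
  set T := stab ⊤ P (sblk M (Subgroup.centralizer (P : Set G)) b)
  have hT : stab ⊤ (P.subgroupOf H)
      (sblk M (Subgroup.centralizer ((P.subgroupOf H : Subgroup H) : Set H)) b') =
      T.subgroupOf H := by
    ext x
    rw [← map_mem_stab_iff (φ := H.subtype) hinj, htop, hPm, hee, Subgroup.mem_subgroupOf,
      mem_stab, mem_stab, Subgroup.coe_subtype]
    simp only [Subgroup.mem_top, true_and]
    exact and_congr_left' (and_iff_right x.2)
  have hC : Subgroup.centralizer ((P.subgroupOf H : Subgroup H) : Set H) =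
      (Subgroup.centralizer (P : Set G)).subgroupOf H := by
    ext x
    rw [Subgroup.mem_subgroupOf, Subgroup.mem_centralizer_iff, Subgroup.mem_centralizer_iff]
    exact ⟨fun h y hy => congrArg Subtype.val (h ⟨y, hPH hy⟩ hy),
      fun h y hy => Subtype.ext (h y hy)⟩
  rw [hT, hC]
  exact Subgroup.relIndex_subgroupOf fun x hx => hNH hx.1.2

theorem exists_isometry_frobenius {G : Type u} [Group G] [Fintype G] {B : Set (IrrCharacter G)}
    (S : Setup p M G B) {n e : ℕ} [NeZero n] (hn : n = p ^ S.a) (he : e = S.e) {F : Type v}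
    [Group F] [Fintype F] (hF : Nat.card F = n * e) {Q : Subgroup F} (hQ : IsCyclic Q)
    (hQcard : Nat.card Q = n) (hQC : Subgroup.centralizer (Q : Set F) = Q) :
    ∃ (I : IrrCharacter F → IrrCharacter G) (ε : IrrCharacter F → ℤ),
      Cfsg.IsPerfectIsometry p M (Set.univ : Set (IrrCharacter F)) B I ε ∧
      ∀ η η' : IrrCharacter F, (∃ x ∈ Q, (η : F → ℂ) x ≠ (η : F → ℂ) 1) →
        (∃ x ∈ Q, (η' : F → ℂ) x ≠ (η' : F → ℂ) 1) → ε η = ε η' := by
  subst he
  obtain rfl : n = S.nil.n := hn.trans S.n_eq.symm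
  obtain ⟨dG⟩ := exists_data S
  have hg := good_setup S
  have hdF : ∃ d : CycData p M S.nil.n S.e (Set.univ : Set (IrrCharacter F)),
      ∀ η : IrrCharacter F, (∃ x ∈ Q, (η : F → ℂ) x ≠ (η : F → ℂ) 1) →
        ∃ q, d.lab (Sum.inr q) = η := by
    have key : ∀ (m : ℕ) [NeZero m], m = p ^ S.a → Nat.card F = m * S.e → Nat.card Q = m →
        ∃ d : CycData p M m S.e (Set.univ : Set (IrrCharacter F)),
          ∀ η : IrrCharacter F, (∃ x ∈ Q, (η : F → ℂ) x ≠ (η : F → ℂ) 1) →
            ∃ q, d.lab (Sum.inr q) = η := by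
      intro m _ hm h1 h2
      subst hm
      exact exists_frobenius_data M S.a_pos h1 hQ h2 hQC S.e_dvd
    exact key S.nil.n S.n_eq hF hQcard
  obtain ⟨dF, hdF⟩ := hdF
  obtain ⟨I, ε, hI, hex⟩ := exists_perfect S.mod hg dG dF
  refine ⟨I, ε, hI, fun η η' h h' => ?_⟩
  obtain ⟨q, rfl⟩ := hdF η h
  obtain ⟨q', rfl⟩ := hdF η' h'
  rw [(hex q).2, (hex q').2]

theorem exists_isometry_setups {G : Type u} [Group G] [Fintype G] {H : Type v} [Group H]
    [Fintype H] {B : Set (IrrCharacter G)} {c : Set (IrrCharacter H)} (S : Setup p M G B)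
    (S' : Setup p M H c) (ha : p ^ S.a = p ^ S'.a) (he : S.e = S'.e) :
    Nat.card c = Nat.card B ∧ Cfsg.blockRank p c = Cfsg.blockRank p B ∧
      ∃ (I : IrrCharacter H → IrrCharacter G) (ε : IrrCharacter H → ℤ),
        Cfsg.IsPerfectIsometry p M c B I ε := by
  obtain ⟨dG⟩ := exists_data S
  obtain ⟨dH⟩ := exists_data S'
  have hn : S'.nil.n = S.nil.n := by rw [S'.n_eq, S.n_eq, ha]
  have key : ∀ (n n' e e' : ℕ) [NeZero n] [NeZero n'], n' = n → e = e' → Good n e →
      CycData p M n e B → CycData p M n' e' c →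
      ∃ (I : IrrCharacter H → IrrCharacter G) (ε : IrrCharacter H → ℤ),
        Cfsg.IsPerfectIsometry p M c B I ε := by
    intro n n' e e' _ _ hn he hg d d'
    subst hn he
    obtain ⟨I, ε, h, -⟩ := exists_perfect S.mod hg d d'
    exact ⟨I, ε, h⟩
  obtain ⟨I, ε, hI⟩ := key _ _ _ _ hn he (good_setup S) dG dH
  refine ⟨?_, ?_, I, ε, hI⟩
  · exact Nat.card_congr (Set.BijOn.equiv I hI.1)
  · rw [S.main.1, S'.main.1, he]

end CfsgLib.CyclicIsometry
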