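import Cfsg.Agent.CyclicIsometry.Final
import Cfsg.Agent.CyclicDefect.Result

/-!
# The setting exists
-/

set_option autoImplicit false
set_option linter.unusedSectionVars false
set_option linter.style.haveILetI false

namespace CfsgLib.CyclicIsometry

open Cfsg CfsgLib.BlockPairs
open CfsgLib.Blocks (Res)

universe u

theorem setupExists {p : ℕ} [hp : Fact p.Prime] {M : Ideal AlgInt} [M.IsPrime] [CharP (Res M) p]
    [IsAlgClosed (Res M)] {G : Type u} [Group G] [Fintype G] (hM : Cfsg.IsPModular p M)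
    {B : Set (IrrCharacter G)} {P : Subgroup G} (hPD : Cfsg.IsDefectGroup p M B P)
    (hP : P ≠ ⊥) (hcyc : IsCyclic P) : SetupExists (p := p) (M := M) B P := by
  intro b hb T hT
  obtain ⟨a, ha⟩ := IsPGroup.iff_card.1 (CfsgLib.Blocks.IsDefectGroup.isPGroup hPD)
  have ha1 : 1 ≤ a := Nat.one_le_iff_ne_zero.2 fun h0 => hP (Subgroup.eq_bot_of_card_eq P (by
    rw [ha, h0, pow_zero]))
  obtain ⟨S, he, hSa, -⟩ :=
    CyclicDefect.exists_setup_of_induced p M hM P hcyc a ha1 ha B hPD b hb
  exact ⟨S, by rw [hSa, ha], by rw [he, CyclicDefect.stab_eq_forall hb.1 hT]⟩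

end CfsgLib.CyclicIsometry
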