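import Cfsg.Agent.CyclicIsometry.Consumers
import Cfsg.Agent.AbelianDefect.Root

/-!
# The three consumers of the setting of a block with cyclic defect group
-/

set_option autoImplicit false
set_option linter.unusedSectionVars false
set_option linter.style.haveILetI false

namespace CfsgLib.CyclicIsometry

open Cfsg CfsgLib.BlockPairs CfsgLib.CyclicDefect CfsgLib.InertialQuotient
open CfsgLib.Blocks (Res)

universe u v

variable {G : Type u} [Group G] [Fintype G] {p : ℕ} [hp : Fact p.Prime] {M : Ideal AlgInt}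
  [M.IsPrime] [CharP (Res M) p] [IsAlgClosed (Res M)]

/-- Nilpotent exactly when there is one irreducible Brauer character. -/
theorem nilpotent_iff_rank_one (hM : Cfsg.IsPModular p M) {B : Set (IrrCharacter G)}
    (hB : Cfsg.IsPBlock M B) {P : Subgroup G} (hPD : Cfsg.IsDefectGroup p M B P)
    (hcyc : IsCyclic P) (hS : P ≠ ⊥ → SetupExists (p := p) (M := M) B P) :
    Cfsg.IsNilpotentBlock p M B ↔ Cfsg.blockRank p B = 1 :=
  CfsgLib.CyclicNilpotent.isNilpotentBlock_iff_rank_one hM hB hPD hcyc fun hP b hb T hT => by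
    obtain ⟨S, -, he⟩ := hS hP b hb T hT
    rw [← he]
    exact S.main.1

/-- The isometry from the semidirect product. -/
theorem isometry_frobenius {B : Set (IrrCharacter G)} {P : Subgroup G}
    (hS : SetupExists (p := p) (M := M) B P)
    {c : Set (IrrCharacter (Subgroup.centralizer (P : Set G)))}
    (hc : Cfsg.IsInducedBlock M (Subgroup.centralizer (P : Set G)) c B) {T : Subgroup G}
    (hT : ∀ g : G, g ∈ T ↔ (g ∈ Subgroup.normalizer (P : Set G) ∧
      Cfsg.StabilizesBlock (Subgroup.centralizer (P : Set G)) c g))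
    {e : ℕ} (he : (Subgroup.centralizer (P : Set G)).relIndex T = e)
    {F : Type v} [Group F] [Finite F] (hF : Nat.card F = Nat.card P * e) {Q : Subgroup F}
    (hQ : IsCyclic Q) (hQcard : Nat.card Q = Nat.card P)
    (hQC : Subgroup.centralizer (Q : Set F) = Q) :
    ∃ (I : IrrCharacter F → IrrCharacter G) (ε : IrrCharacter F → ℤ),
      Cfsg.IsPerfectIsometry p M (Set.univ : Set (IrrCharacter F)) B I ε ∧
      ∀ η η' : IrrCharacter F, (∃ x ∈ Q, (η : F → ℂ) x ≠ (η : F → ℂ) 1) →
        (∃ x ∈ Q, (η' : F → ℂ) x ≠ (η' : F → ℂ) 1) → ε η = ε η' := by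
  haveI := Fintype.ofFinite F
  obtain ⟨S, ha, heS⟩ := hS c hc T fun g => by
    rw [← mem_stab_iff_forall hc.1 g, stab_eq hc.1 hT]
  haveI : NeZero (Nat.card P) := ⟨Nat.card_pos.ne'⟩
  exact exists_isometry_frobenius S ha.symm (he.symm.trans heS.symm) hF hQ hQcard hQC

/-- The isometry with the block of the normalizer of the subgroup of order `p`. -/
theorem isometry_local {B : Set (IrrCharacter G)} (hB : Cfsg.IsPBlock M B) {P : Subgroup G}
    (hPD : Cfsg.IsDefectGroup p M B P) (hcyc : IsCyclic P) {Z : Subgroup G} (hZ : Z ≤ P)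
    {H : Subgroup G} [Fintype H] (hH : H = Subgroup.normalizer (Z : Set G))
    {c : Set (IrrCharacter H)} (hcD : Cfsg.IsDefectGroup p M c (P.subgroupOf H))
    (hc : Cfsg.IsInducedBlock M H c B) (hSB : SetupExists (p := p) (M := M) B P)
    (hSc : SetupExists (p := p) (M := M) c (P.subgroupOf H)) :
    Nat.card c = Nat.card B ∧ Cfsg.blockRank p c = Cfsg.blockRank p B ∧
      ∃ (I : IrrCharacter H → IrrCharacter G) (ε : IrrCharacter H → ℤ),
        Cfsg.IsPerfectIsometry p M c B I ε := by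
  have hNH : Subgroup.normalizer (P : Set G) ≤ H := by
    rw [hH]
    intro g hg
    obtain ⟨u, hu⟩ : ∃ u : G, Subgroup.zpowers u = P := by
      obtain ⟨w, hw⟩ := hcyc.exists_generator
      refine ⟨w, le_antisymm (Subgroup.zpowers_le.2 w.2) fun y hy => ?_⟩
      obtain ⟨i, hi⟩ := hw ⟨y, hy⟩
      exact ⟨i, congrArg Subtype.val hi⟩
    obtain ⟨n, hn⟩ := exists_conj_pow hu hg
    refine mem_normalizer_of_cj_eq (Subgroup.eq_of_le_of_card_ge ?_ (card_cj g Z).ge)
    intro y hy
    obtain ⟨z, hz, rfl⟩ := Subgroup.mem_map.1 hy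
    show g * z * g⁻¹ ∈ Z
    rw [hn z (hZ hz)]
    exact pow_mem hz n
  obtain ⟨b, b', hb, hb', hidx⟩ := exists_roots hB hPD hNH hcD hc
  obtain ⟨S, ha, he⟩ := hSB b hb _ (mem_stab_iff_forall hb.1)
  obtain ⟨S', ha', he'⟩ := hSc b' hb' _ (mem_stab_iff_forall hb'.1)
  refine exists_isometry_setups S S' ?_ (by rw [he, he', hidx])
  rw [ha, ha', Nat.card_congr (Subgroup.subgroupOfEquivOfLe
    (Subgroup.le_normalizer.trans hNH)).toEquiv]

end CfsgLib.CyclicIsometry
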