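import Cfsg.Agent.CyclicDefect.Columns
import Cfsg.Agent.Star.Contr
import Cfsg.Agent.InertialQuotient.KleinSigns

/-!
# Divisibility of the Fourier coefficients of a nilpotent block

The order of the defect group times a Fourier coefficient at an element is divisible by the order
of the centralizer of the element.
-/

set_option autoImplicit false
set_option linter.unusedSectionVars false
set_option linter.style.haveILetI false

namespace CfsgLib.CyclicIsometry

open Cfsg CfsgLib.BlockPairs CfsgLib.Star CfsgLib.CyclicDefect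
open CfsgLib.Blocks (Res localRing)

universe u

variable {p : ℕ} [hp : Fact p.Prime] {M : Ideal AlgInt} [M.IsPrime]

/-- A value of a member of a block of defect `d`, times `p ^ d`, is divisible by the centralizer. -/
theorem memLocalRing_pow_mul_div (hM : Cfsg.IsPModular p M) {H : Type u} [Group H] [Fintype H]
    {f : Set (IrrCharacter H)} {ξ : IrrCharacter H} (hξ : ξ ∈ f) (s : H) :
    Cfsg.MemLocalRing M (((p ^ Cfsg.blockDefect p f : ℕ) : ℂ) * (ξ : H → ℂ) s /
      (Nat.card (Subgroup.centralizer ({s} : Set H)) : ℂ)) := by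
  have hC : (Nat.card (Subgroup.centralizer ({s} : Set H)) : ℂ) ≠ 0 :=
    Nat.cast_ne_zero.2 Nat.card_pos.ne'
  have hH : (Nat.card H : ℂ) ≠ 0 := Nat.cast_ne_zero.2 Nat.card_pos.ne'
  have hd : ((Cfsg.charDegree (ξ : H → ℂ) : ℕ) : ℂ) ≠ 0 :=
    Nat.cast_ne_zero.2 (CfsgLib.Blocks.charDegree_ne_zero ξ)
  have hkey : ((p ^ Cfsg.blockDefect p f : ℕ) : ℂ) * (ξ : H → ℂ) s /
      (Nat.card (Subgroup.centralizer ({s} : Set H)) : ℂ) =
      (((p ^ Cfsg.blockDefect p f * Cfsg.charDegree (ξ : H → ℂ) : ℕ) : ℂ) / (Nat.card H : ℂ)) *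
        Cfsg.centralChar (ξ : H → ℂ) s := by
    rw [CfsgLib.Blocks.centralChar_eq]
    have hidx : ((Subgroup.centralizer ({s} : Set H)).index : ℂ) *
        (Nat.card (Subgroup.centralizer ({s} : Set H)) : ℂ) = (Nat.card H : ℂ) := by
      rw [← Nat.cast_mul, Subgroup.index_mul_card]
    rw [← hidx]
    have hi : ((Subgroup.centralizer ({s} : Set H)).index : ℂ) ≠ 0 :=
      Nat.cast_ne_zero.2 Subgroup.index_ne_zero_of_finite
    push_cast
    field_simp
  rw [hkey]
  refine Subring.mul_mem (localRing M) (CfsgLib.Blocks.memLocalRing_div_of_eq hM Nat.card_pos.ne' ?_)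
    (CfsgLib.Blocks.memLocalRing_centralChar ξ s)
  rw [Nat.factorization_mul (pow_ne_zero _ hp.out.ne_zero) (CfsgLib.Blocks.charDegree_ne_zero ξ),
    Finsupp.add_apply, hp.out.factorization_pow, Finsupp.single_eq_same, Cfsg.blockDefect]
  have : sInf ((fun χ : IrrCharacter H => (Cfsg.charDegree (χ : H → ℂ)).factorization p) '' f) ≤
      (Cfsg.charDegree (ξ : H → ℂ)).factorization p := Nat.sInf_le ⟨ξ, hξ, rfl⟩
  omega

variable {G : Type u} [Group G] [Fintype G] [CharP (Res M) p] [IsAlgClosed (Res M)]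
  (𝒩 : Nil p M G)

theorem ind_mem (l : ZMod 𝒩.n) (g : G) : Cfsg.MemLocalRing M (𝒩.ind l g) := by
  classical
  unfold CyclicDefect.Nil.ind
  split_ifs
  · exact Subring.one_mem (localRing M)
  · exact Subring.zero_mem (localRing M)
  · exact Subring.zero_mem (localRing M)

/-- The trace of a block below the maximal pair. -/
theorem T_div_mem {g : G} (hgP : pPart p g ∈ 𝒩.P) {e : GA (Res M) G}
    (he : IsBlock (Subgroup.centralizer ({pPart p g} : Set G)) e)
    (hle : Le p ⊤ (Subgroup.zpowers (pPart p g)) e 𝒩.P 𝒩.eP) :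
    Cfsg.MemLocalRing M ((𝒩.n : ℂ) * T M (𝒩.χ : G → ℂ) g e /
      (Nat.card (Subgroup.centralizer ({g} : Set G)) : ℂ)) := by
  classical
  obtain ⟨y, hy, hc, hk, hy'⟩ := pPart_spec (p := p) g
  set w := pPart p g
  haveI := Fintype.ofFinite ↥(Subgroup.centralizer ({w} : Set G))
  obtain ⟨f, hf, rfl⟩ := exists_eq_sblk (M := M) he
  have hwC : 𝒩.P ≤ Subgroup.centralizer ({w} : Set G) :=
    𝒩.comm.trans (Subgroup.centralizer_le (Set.singleton_subset_iff.2 hgP))
  have hd : Cfsg.blockDefect p f = Cfsg.blockDefect p 𝒩.B :=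
    Star.blockDefect_sub 𝒩.mod 𝒩.block 𝒩.max hwC hf hle
  have hn : 𝒩.n = p ^ Cfsg.blockDefect p 𝒩.B :=
    CfsgLib.Blocks.card_defectGroup 𝒩.mod 𝒩.block ((isDefectGroup_gblk_iff 𝒩.block _).2
      (IsMaxPair.isDefectGrp (isBlock_gblk 𝒩.block) 𝒩.max).1)
  let s : ↥(Subgroup.centralizer ({w} : Set G)) :=
    ⟨y, Subgroup.mem_centralizer_singleton_iff.2 hc.eq.symm⟩
  have hg : g = w * (s : G) := hy.symm
  have hs : ¬ p ∣ orderOf s := by rw [← Subgroup.orderOf_coe]; exact hy'
  have hfu := CfsgLib.Blocks.isBlockUnion_of_isPBlock hf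
  have hT : T M (𝒩.χ : G → ℂ) g (sblk M (Subgroup.centralizer ({w} : Set G)) f) =
      BlocksCharsC.secVal w f (𝒩.χ : G → ℂ) s := by
    rw [hg, T_sblk 𝒩.mod hfu (Characters.isClassFunction_of_isIrr 𝒩.χ.2), BlocksCharsC.secVal,
      Cfsg.blockPart, CfsgLib.Blocks.finsum_irr_mem,
      show Fintype.ofFinite ↥(Subgroup.centralizer ({w} : Set G)) = ‹_› from Subsingleton.elim _ _,
      ← Finset.sum_filter]
    exact Finset.sum_congr (by ext; simp) fun ξ _ => rfl
  rw [hT, BlocksCharsC.secVal, Finset.mul_sum, Finset.sum_div]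
  refine Subring.sum_mem (localRing M) fun ξ hξ => ?_
  rw [mul_left_comm, mul_div_assoc]
  refine Subring.mul_mem (localRing M) ?_ ?_
  · obtain ⟨k, hk'⟩ := hk
    obtain ⟨m, hm⟩ := Characters.classInner_character_irr
      (Characters.isCharacter_restrict (Subgroup.centralizer ({w} : Set G))
        (Characters.isCharacter_of_isIrr 𝒩.χ.2)) ξ.2
    rw [BlocksCharsC.secCoef_eq, hm]
    refine Subring.mul_mem (localRing M) (CfsgLib.Blocks.memLocalRing_natCast _)
      (CfsgLib.Blocks.memLocalRing_of_isIntegral ?_)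
    refine IsIntegral.of_pow (pow_pos hp.out.pos k) ?_
    rw [BlocksCharsC.secRoot_pow hk' ξ]
    exact isIntegral_one
  · rw [hn, ← hd, hg, InertialQuotient.centralizer_singleton_eq_of_pPart hk hs]
    exact memLocalRing_pow_mul_div 𝒩.mod (Set.mem_toFinset.1 hξ) s

/-- The order of the defect group times a Fourier coefficient. -/
theorem part_div_mem (l : ZMod 𝒩.n) (g : G) :
    Cfsg.MemLocalRing M ((𝒩.n : ℂ) * 𝒩.part l g /
      (Nat.card (Subgroup.centralizer ({g} : Set G)) : ℂ)) := by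
  classical
  rw [CyclicDefect.Nil.part, star_apply, Finset.mul_sum, Finset.sum_div]
  refine Subring.sum_mem (localRing M) fun e he => ?_
  rw [mul_left_comm, mul_div_assoc]
  by_cases h : ∃ x, Le p ⊤ (cj x (Subgroup.zpowers (pPart p g))) (conjA (Res M) x e) 𝒩.P 𝒩.eP
  · refine Subring.mul_mem (localRing M) ?_ ?_
    · rw [zt, dif_pos h]; exact ind_mem 𝒩 l _
    obtain ⟨x, hx⟩ := h
    have he' : IsBlock (cent ⊤ (Subgroup.zpowers (pPart p g))) e := mem_blocks.1 he
    have hpp : pPart p (x * g * x⁻¹) = x * pPart p g * x⁻¹ := pPart_conj x g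
    rw [cj_zpowers, ← hpp] at hx
    have hmem : pPart p (x * g * x⁻¹) ∈ 𝒩.P := hx.subgroup_le (Subgroup.mem_zpowers _)
    have hblk : IsBlock (Subgroup.centralizer ({pPart p (x * g * x⁻¹)} : Set G))
        (conjA (Res M) x e) := by
      have h1 := isBlock_centralizer (le_pair 𝒩.max.1.1 hx)
      rwa [InertialQuotient.centralizer_zpowers] at h1
    have hTc : T M (𝒩.χ : G → ℂ) (x * g * x⁻¹) (conjA (Res M) x e) =
        T M (𝒩.χ : G → ℂ) g e := T_conj (Characters.isClassFunction_of_isIrr 𝒩.χ.2)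
          he'.idem (conjA_block he)
    have hcard : Nat.card (Subgroup.centralizer ({x * g * x⁻¹} : Set G)) =
        Nat.card (Subgroup.centralizer ({g} : Set G)) := by
      rw [← card_cj x (Subgroup.centralizer ({g} : Set G)),
        CfsgLib.Blocks.cj_centralizer_singleton]
    have := T_div_mem 𝒩 hmem hblk hx
    rwa [hTc, hcard] at this
  · rw [zt, dif_neg h, zero_mul]
    exact Subring.zero_mem (localRing M)

end CfsgLib.CyclicIsometry
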