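import Cfsg.Agent.CyclicIsometry.Roots
import Cfsg.Agent.InertialQuotient.KleinSigns
import Cfsg.Prelude.Def_BlockLocal

/-!
# Two blocks of the shape of a block with cyclic defect group are perfectly isometric

`CycData p M n e B` labels the members of `B` by `Fin e ⊕ Col n e` with signs, such that the signed
members satisfy the one relation on p-regular elements and are the orbit sums of the additive
character of local coefficients on p-singular elements.
-/

set_option autoImplicit false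
set_option linter.style.haveILetI false
set_option linter.unusedSectionVars false

namespace CfsgLib.CyclicIsometry

open Cfsg
open CfsgLib.Blocks (localRing)

universe u v

/-- The labelled data. -/
structure CycData (p : ℕ) (M : Ideal AlgInt) (n e : ℕ) [NeZero n] {G : Type u} [Group G]
    (B : Set (IrrCharacter G)) where
  lab : Fin e ⊕ Col n e → IrrCharacter G
  bij : Set.BijOn lab Set.univ B
  sgn : Fin e → ℤ
  sgn₀ : ℤ
  sgn_eq : ∀ k, sgn k = 1 ∨ sgn k = -1
  sgn₀_eq : sgn₀ = 1 ∨ sgn₀ = -1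
  regular : ∀ g : G, ¬ p ∣ orderOf g → ∀ q, (sgn₀ : ℂ) * (lab (Sum.inr q) : G → ℂ) g +
    ∑ k, (sgn k : ℂ) * (lab (Sum.inl k) : G → ℂ) g = 0
  singular : ∀ g : G, p ∣ orderOf g → ∃ φ : ZMod n → ℂ, φ 0 = 0 ∧
    (∀ m, Cfsg.MemLocalRing M (φ m) ∧ Cfsg.MemLocalRing M ((n : ℂ) * φ m /
      (Nat.card (Subgroup.centralizer ({g} : Set G)) : ℂ))) ∧
    (∀ q, (sgn₀ : ℂ) * (lab (Sum.inr q) : G → ℂ) g = ∑ m, φ m * emat m q) ∧
    ∀ k, (sgn k : ℂ) * (lab (Sum.inl k) : G → ℂ) g = -∑ m, φ m

variable {p : ℕ} [Fact p.Prime] {M : Ideal AlgInt} {n e : ℕ} [NeZero n]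
  {G : Type u} [Group G] {H : Type v} [Group H]
  {B : Set (IrrCharacter G)} {c : Set (IrrCharacter H)}

/-- The sign of a label. -/
def CycData.sg (d : CycData p M n e B) : Fin e ⊕ Col n e → ℤ := Sum.elim d.sgn fun _ => d.sgn₀

theorem CycData.sg_eq (d : CycData p M n e B) (i : Fin e ⊕ Col n e) :
    d.sg i = 1 ∨ d.sg i = -1 := by
  cases i with
  | inl k => exact d.sgn_eq k
  | inr q => exact d.sgn₀_eq

/-- The kernel of two data. -/
noncomputable def kern (d : CycData p M n e B) (d' : CycData p M n e c) (g : G) (h : H) : ℂ :=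
  ∑ i, ((d.sg i : ℂ) * (d.lab i : G → ℂ) g) * ((d'.sg i : ℂ) * (d'.lab i : H → ℂ) h)

theorem kern_symm (d : CycData p M n e B) (d' : CycData p M n e c) (g : G) (h : H) :
    kern d d' g h = kern d' d h g := Finset.sum_congr rfl fun _ _ => mul_comm _ _

theorem kern_eq (d : CycData p M n e B) (d' : CycData p M n e c) (g : G) (h : H) :
    kern d d' g h =
      ∑ k, ((d.sgn k : ℂ) * (d.lab (Sum.inl k) : G → ℂ) g) *
          ((d'.sgn k : ℂ) * (d'.lab (Sum.inl k) : H → ℂ) h) +
      ∑ q, ((d.sgn₀ : ℂ) * (d.lab (Sum.inr q) : G → ℂ) g) *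
          ((d'.sgn₀ : ℂ) * (d'.lab (Sum.inr q) : H → ℂ) h) :=
  Fintype.sum_sum_type _

theorem kern_mixed (hg' : Good n e) (d : CycData p M n e B) (d' : CycData p M n e c) {g : G}
    {h : H} (hg : ¬ p ∣ orderOf g) (hh : p ∣ orderOf h) : kern d d' g h = 0 := by
  obtain ⟨φ, hφ0, -, hY, hX⟩ := d'.singular h hh
  set S := ∑ k, (d.sgn k : ℂ) * (d.lab (Sum.inl k) : G → ℂ) g with hS
  have hq : ∀ q, (d.sgn₀ : ℂ) * (d.lab (Sum.inr q) : G → ℂ) g = -S := fun q =>
    eq_neg_of_add_eq_zero_left (d.regular g hg q)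
  have hE : ∑ q : Col n e, ∑ m, φ m * emat m q = -∑ m, φ m := by
    rw [Finset.sum_comm, ← Finset.sum_neg_distrib]
    refine Finset.sum_congr rfl fun m _ => ?_
    rw [← Finset.mul_sum]
    by_cases hm : m = 0
    · rw [hm, hφ0, zero_mul, neg_zero]
    · rw [sum_emat hg'.pos hm, mul_neg, mul_one]
  rw [kern_eq]
  simp only [hY, hX, hq]
  rw [← Finset.sum_mul, ← Finset.mul_sum, hE, ← hS]
  ring

variable [Finite G] [Finite H]

theorem kern_spec (hM : Cfsg.IsPModular p M) (hg' : Good n e) (d : CycData p M n e B)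
    (d' : CycData p M n e c) (g : G) (h : H) :
    Cfsg.MemLocalRing M (kern d d' g h / (Nat.card (Subgroup.centralizer ({g} : Set G)) : ℂ)) ∧
      ((¬ p ∣ orderOf g ↔ ¬ p ∣ orderOf h) ∨ kern d d' g h = 0) := by
  classical
  haveI := CfsgLib.Blocks.IsPModular.isPrime hM
  haveI := Fintype.ofFinite G
  haveI := Fintype.ofFinite H
  by_cases hg : p ∣ orderOf g <;> by_cases hh : p ∣ orderOf h
  · refine ⟨?_, Or.inl (iff_of_false (not_not.2 hg) (not_not.2 hh))⟩
    obtain ⟨φ, -, hφ, hY, hX⟩ := d.singular g hg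
    obtain ⟨ψ, -, hψ, hY', hX'⟩ := d'.singular h hh
    choose z hz using fun m m' : ZMod n => hg'.exists_pair m m'
    have hk : kern d d' g h = ∑ m, ∑ m', (n : ℂ) * φ m * ((z m m' : ℂ) * ψ m') := by
      rw [kern_eq]
      simp only [hY, hX, hY', hX', neg_mul_neg, Finset.sum_const, Finset.card_univ,
        Fintype.card_fin, nsmul_eq_mul, Finset.sum_mul_sum]
      rw [Finset.mul_sum, Finset.sum_comm, ← Finset.sum_add_distrib]
      refine Finset.sum_congr rfl fun m _ => ?_
      rw [Finset.mul_sum, Finset.sum_comm, ← Finset.sum_add_distrib]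
      refine Finset.sum_congr rfl fun m' _ => ?_
      rw [Finset.sum_congr rfl (g := fun q => φ m * ψ m' * (emat m q * emat m' q))
        (fun q _ => by ring), ← Finset.mul_sum]
      linear_combination (φ m * ψ m') * hz m m'
    rw [hk, Finset.sum_div]
    refine Subring.sum_mem (localRing M) fun m _ => ?_
    rw [Finset.sum_div]
    refine Subring.sum_mem (localRing M) fun m' _ => ?_
    rw [mul_div_right_comm]
    exact Subring.mul_mem (localRing M) (hφ m).2
      (Subring.mul_mem _ (intCast_mem _ _) (hψ m').1)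
  · have h0 : kern d d' g h = 0 := by rw [kern_symm]; exact kern_mixed hg' d' d hh hg
    exact ⟨by rw [h0, zero_div]; exact Subring.zero_mem (localRing M), Or.inr h0⟩
  · have h0 := kern_mixed hg' d d' hg hh
    exact ⟨by rw [h0, zero_div]; exact Subring.zero_mem (localRing M), Or.inr h0⟩
  · refine ⟨?_, Or.inl (iff_of_true hg hh)⟩
    let w : Fin e ⊕ Col n e → ℂ := fun i =>
      (d.sg i : ℂ) * ((d'.sg i : ℂ) * (d'.lab i : H → ℂ) h)
    let cf : IrrCharacter G → ℂ := fun χ => ∑ i, if d.lab i = χ then w i else 0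
    have hF : ∀ x, ∑ χ, cf χ * (χ : G → ℂ) x = kern d d' x h := fun x => by
      simp only [cf, Finset.sum_mul, ite_mul, zero_mul]
      rw [Finset.sum_comm, kern]
      refine Finset.sum_congr rfl fun i _ => ?_
      rw [Finset.sum_ite_eq, if_pos (Finset.mem_univ _)]
      simp only [w]
      ring
    have hmem : ∀ χ, Cfsg.MemLocalRing M (cf χ) := fun χ =>
      Subring.sum_mem (localRing M) fun i _ => by
        split_ifs
        · exact Subring.mul_mem _ (intCast_mem _ _) (Subring.mul_mem _ (intCast_mem _ _)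
            (CfsgLib.Blocks.memLocalRing_char _ _))
        · exact Subring.zero_mem _
    have := InertialQuotient.memLocalRing_div_of_vanish hM cf hmem (fun x hx => by
      rw [hF, kern_symm]
      exact kern_mixed hg' d' d hh hx) hg
    rwa [hF] at this

/-- Two blocks with the same labels are perfectly isometric. -/
theorem exists_perfect (hM : Cfsg.IsPModular p M) (hg : Good n e) (d : CycData p M n e B)
    (d' : CycData p M n e c) :
    ∃ (I : IrrCharacter H → IrrCharacter G) (ε : IrrCharacter H → ℤ),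
      Cfsg.IsPerfectIsometry p M c B I ε ∧
      ∀ q, I (d'.lab (Sum.inr q)) = d.lab (Sum.inr q) ∧
        ε (d'.lab (Sum.inr q)) = d.sgn₀ * d'.sgn₀ := by
  classical
  haveI : Nonempty (Fin e ⊕ Col n e) := ⟨Sum.inl ⟨0, hg.pos⟩⟩
  have hinj : Function.Injective d'.lab := fun i j h =>
    d'.bij.injOn (Set.mem_univ i) (Set.mem_univ j) h
  have hsurj : ∀ η ∈ c, ∃ i, d'.lab i = η := fun η hη =>
    let ⟨i, _, hi⟩ := d'.bij.surjOn hη
    ⟨i, hi⟩
  let I : IrrCharacter H → IrrCharacter G := fun η => d.lab (Function.invFun d'.lab η)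
  let ε : IrrCharacter H → ℤ := fun η =>
    d.sg (Function.invFun d'.lab η) * d'.sg (Function.invFun d'.lab η)
  have hI : ∀ i, I (d'.lab i) = d.lab i := fun i => by
    simp only [I, Function.leftInverse_invFun hinj i]
  have hε : ∀ i, ε (d'.lab i) = d.sg i * d'.sg i := fun i => by
    simp only [ε, Function.leftInverse_invFun hinj i]
  have hkern : ∀ g h, signedBijectionKernel c I ε g h = kern d d' g h := fun g h => by
    have hc := d'.bij.image_eq
    rw [signedBijectionKernel,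
      show (∑ᶠ η ∈ c, (ε η : ℂ) * (I η : G → ℂ) g * (η : H → ℂ) h) =
        ∑ᶠ η ∈ d'.lab '' Set.univ, (ε η : ℂ) * (I η : G → ℂ) g * (η : H → ℂ) h by rw [hc],
      finsum_mem_image hinj.injOn, finsum_mem_univ, finsum_eq_sum_of_fintype, kern]
    refine Finset.sum_congr rfl fun i _ => ?_
    rw [hI, hε]
    push_cast
    ring
  refine ⟨I, ε, ⟨⟨?_, ?_, ?_⟩, fun η hη => ?_, fun g h => ?_⟩, fun q => ⟨hI _, hε _⟩⟩
  · intro η hη
    obtain ⟨i, rfl⟩ := hsurj η hη
    rw [hI]
    exact d.bij.mapsTo (Set.mem_univ i)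
  · intro η hη η' hη' hh
    obtain ⟨i, rfl⟩ := hsurj η hη
    obtain ⟨j, rfl⟩ := hsurj η' hη'
    rw [hI, hI] at hh
    rw [d.bij.injOn (Set.mem_univ i) (Set.mem_univ j) hh]
  · intro χ hχ
    obtain ⟨i, -, rfl⟩ := d.bij.surjOn hχ
    exact ⟨d'.lab i, d'.bij.mapsTo (Set.mem_univ i), hI i⟩
  · obtain ⟨i, rfl⟩ := hsurj η hη
    rw [hε]
    rcases d.sg_eq i with h1 | h1 <;> rcases d'.sg_eq i with h2 | h2 <;> rw [h1, h2] <;> simp
  · rw [hkern]
    obtain ⟨h1, h3⟩ := kern_spec hM hg d d' g h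
    obtain ⟨h2, -⟩ := kern_spec hM hg d' d h g
    rw [← kern_symm] at h2
    exact ⟨h1, h2, h3⟩

end CfsgLib.CyclicIsometry
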