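import Cfsg.Agent.CyclicDefect.Main
import Cfsg.Agent.Characters.Induction
import Cfsg.Agent.CyclicIsometry.Nil
import Cfsg.Agent.CyclicIsometry.Shape

/-!
# The labelled data of a block with cyclic defect group

The local coefficient at a singular element is the induced Fourier coefficient of the nilpotent
block below, divided by the inertial index.
-/

set_option autoImplicit false
set_option linter.unusedSectionVars false
set_option linter.style.haveILetI false
set_option maxHeartbeats 800000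

namespace CfsgLib.CyclicIsometry

open Cfsg CfsgLib.BlockPairs CfsgLib.CyclicDefect
open CfsgLib.Blocks (Res localRing)

universe u

variable {p : ℕ} [hp : Fact p.Prime] {M : Ideal AlgInt} [M.IsPrime]

/-- Local integrality of an induced function. -/
theorem memLocalRing_indFun {G : Type u} [Group G] [Fintype G] (X : Subgroup G) {f : X → ℂ}
    (hf : Cfsg.IsClassFunction X f) (g : G)
    (h : ∀ x : X, IsConj g (x : G) → Cfsg.MemLocalRing M (f x)) :
    Cfsg.MemLocalRing M (Cfsg.indFun X f g) := by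
  classical
  haveI := Fintype.ofFinite X
  haveI := Fintype.ofFinite (G ⧸ X)
  have hinv : ∀ (z : G) (y : X), Cfsg.extendByZero X f ((y : G)⁻¹ * z * y) =
      Cfsg.extendByZero X f z := by
    intro z y
    by_cases hz : z ∈ X
    · have hz' : (y : G)⁻¹ * z * y ∈ X := mul_mem (mul_mem (inv_mem y.2) hz) y.2
      rw [Characters.extendByZero_of_mem X f hz, Characters.extendByZero_of_mem X f hz',
        show (⟨_, hz'⟩ : X) = y⁻¹ * ⟨z, hz⟩ * (y⁻¹)⁻¹ from Subtype.ext (by simp), hf]
    · rw [Characters.extendByZero_of_not_mem X f hz, Characters.extendByZero_of_not_mem]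
      intro hc
      refine hz ?_
      have := mul_mem (mul_mem y.2 hc) (inv_mem y.2)
      simpa [mul_assoc] using this
  have hsum : ∑ x : G, Cfsg.extendByZero X f (x⁻¹ * g * x) = (Nat.card X : ℂ) *
      ∑ c : G ⧸ X, Cfsg.extendByZero X f (c.out⁻¹ * g * c.out) := by
    rw [← (Equiv.ofBijective (fun c : (G ⧸ X) × X => c.1.out * (c.2 : G)) ⟨?_, ?_⟩).sum_comp
      (fun x : G => Cfsg.extendByZero X f (x⁻¹ * g * x)), Fintype.sum_prod_type, Finset.mul_sum]
    · refine Finset.sum_congr rfl fun c _ => ?_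
      rw [Finset.sum_congr rfl (g := fun _ => Cfsg.extendByZero X f (c.out⁻¹ * g * c.out))
        fun y _ => by
          rw [← hinv (c.out⁻¹ * g * c.out) y]
          congr 1
          show (c.out * (y : G))⁻¹ * g * (c.out * (y : G)) = _
          simp [mul_assoc], Finset.sum_const, Finset.card_univ, nsmul_eq_mul, Nat.card_eq_fintype_card]
    · rintro ⟨c, y⟩ ⟨c', y'⟩ heq
      have hc : c = c' := by
        have := congrArg (QuotientGroup.mk (s := X)) (show c.out * (y : G) = c'.out * (y' : G) from heq)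
        rwa [QuotientGroup.mk_mul_of_mem _ y.2, QuotientGroup.mk_mul_of_mem _ y'.2,
          QuotientGroup.out_eq', QuotientGroup.out_eq'] at this
      subst hc
      exact Prod.ext rfl (Subtype.ext (mul_left_cancel heq))
    · intro x
      obtain ⟨y, hy⟩ := QuotientGroup.mk_out_eq_mul X x
      exact ⟨((x : G ⧸ X), y⁻¹), by simp [hy]⟩
  rw [Cfsg.indFun, hsum, ← mul_assoc, inv_mul_cancel₀ (Nat.cast_ne_zero.2 Nat.card_pos.ne'),
    one_mul]
  refine Subring.sum_mem (localRing M) fun c _ => ?_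
  by_cases hc : c.out⁻¹ * g * c.out ∈ X
  · rw [Characters.extendByZero_of_mem X f hc]
    exact h ⟨_, hc⟩ (isConj_iff.2 ⟨c.out⁻¹, by simp⟩)
  · rw [Characters.extendByZero_of_not_mem X f hc]
    exact Subring.zero_mem _

theorem centralizer_card_of_isConj {G : Type u} [Group G] [Fintype G] {g g' : G} (h : IsConj g g') :
    Nat.card (Subgroup.centralizer ({g'} : Set G)) =
      Nat.card (Subgroup.centralizer ({g} : Set G)) := by
  obtain ⟨c, rfl⟩ := isConj_iff.1 h
  rw [← card_cj c (Subgroup.centralizer ({g} : Set G)), CfsgLib.Blocks.cj_centralizer_singleton]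

variable {G : Type u} [Group G] [Fintype G] [CharP (Res M) p] [IsAlgClosed (Res M)]
  {B : Set (IrrCharacter G)} (S : Setup p M G B)

theorem not_dvd_e : ¬ p ∣ S.e := fun h => by
  have h2 := hp.out.two_le
  have := Nat.le_of_dvd (by omega) (h.trans S.e_dvd)
  omega

theorem pow_r_mem_roots (l : ℕ) : (S.r : ZMod S.nil.n) ^ l ∈ roots S.nil.n S.e :=
  mem_roots.2 (by rw [← pow_mul, mul_comm, pow_mul, S.r_pow, one_pow])

theorem pow_r_injOn : Set.InjOn (fun l => (S.r : ZMod S.nil.n) ^ l) (Finset.range S.e) := by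
  intro l hl l' hl' h
  simp only [Finset.coe_range, Set.mem_Iio] at hl hl'
  haveI : Fact (1 < S.nil.n) :=
    ⟨by rw [S.n_eq]; exact Nat.one_lt_pow (by have := S.a_pos; omega) hp.out.one_lt⟩
  have key : ∀ a b : ℕ, a ≤ b → b < S.e →
      (S.r : ZMod S.nil.n) ^ a = (S.r : ZMod S.nil.n) ^ b → a = b := by
    intro a b hab hb h
    by_contra hne
    have hu := S.r_free (b - a) fun hd => by
      have := Nat.eq_zero_of_dvd_of_lt hd (by omega)
      omega
    refine not_isUnit_zero (M₀ := ZMod S.nil.n) ?_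
    suffices h0 : (S.r : ZMod S.nil.n) ^ (b - a) = 1 by rwa [h0, sub_self] at hu
    have h1 : (S.r : ZMod S.nil.n) ^ a * (S.r : ZMod S.nil.n) ^ (b - a) =
        (S.r : ZMod S.nil.n) ^ a * 1 := by
      rw [← pow_add, Nat.add_sub_cancel' hab, mul_one, ← h]
    exact ((IsUnit.of_pow_eq_one S.r_pow S.e_pos.ne').pow a).mul_left_cancel h1
  rcases le_total l l' with h' | h'
  · exact key l l' h' hl' h
  · exact (key l' l h' hl h.symm).symm

theorem good_setup : Good S.nil.n S.e := by
  refine good_of_eq_pow S.n_eq S.a_pos (not_dvd_e S) ?_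
  calc S.e = ((Finset.range S.e).image fun l => (S.r : ZMod S.nil.n) ^ l).card := by
        rw [Finset.card_image_of_injOn (pow_r_injOn S), Finset.card_range]
    _ ≤ _ := Finset.card_le_card fun u hu => by
        obtain ⟨l, -, rfl⟩ := Finset.mem_image.1 hu
        exact pow_r_mem_roots S l

theorem roots_eq : roots S.nil.n S.e =
    (Finset.range S.e).image fun l => (S.r : ZMod S.nil.n) ^ l := by
  refine (Finset.eq_of_subset_of_card_le (fun u hu => ?_) ?_).symm
  · obtain ⟨l, -, rfl⟩ := Finset.mem_image.1 hu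
    exact pow_r_mem_roots S l
  · rw [(good_setup S).card, Finset.card_image_of_injOn (pow_r_injOn S), Finset.card_range]

/-- The column of an orbit. -/
noncomputable def colMap (q : S.Col) : Col S.nil.n S.e := colOf S.e q.out.2

theorem colMap_mk {j : ZMod S.nil.n} (hj : j ≠ 0) :
    colMap S (Quotient.mk S.orbSetoid ⟨j, hj⟩) = colOf S.e hj := by
  obtain ⟨l, hl⟩ := Quotient.exact (s := S.orbSetoid)
    (Quotient.out_eq (Quotient.mk S.orbSetoid ⟨j, hj⟩))
  exact (colOf_eq_iff S.e_pos _ hj).2 ⟨_, pow_r_mem_roots S l, hl⟩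

theorem colMap_bijective : Function.Bijective (colMap S) := by
  constructor
  · intro q q' h
    obtain ⟨u, hu, he⟩ := (colOf_eq_iff S.e_pos _ _).1 h
    rw [roots_eq, Finset.mem_image] at hu
    obtain ⟨l, -, rfl⟩ := hu
    rw [← Quotient.out_eq q, ← Quotient.out_eq q']
    exact Quotient.sound (s := S.orbSetoid) (⟨l, he⟩ : S.orbSetoid.r q.out q'.out)
  · intro q
    obtain ⟨j, hj, rfl⟩ := exists_colOf q
    exact ⟨_, colMap_mk S hj⟩

open Classical in
theorem indFun_psi (j : ZMod S.nil.n) (g : G) :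
    Cfsg.indFun S.X (S.psi j) g = ∑ χ ∈ B.toFinset, S.cv χ j * (χ : G → ℂ) g := by
  rw [Finset.sum_subset (Finset.subset_univ B.toFinset) fun χ _ hχ => by
    rw [S.cv_eq_zero (fun h => hχ (Set.mem_toFinset.2 h)), zero_mul]]
  have h := congrFun (Characters.classFunction_expansion
    (Characters.isClassFunction_indFun S.X (S.psi j))) g
  rw [Finset.sum_apply] at h
  rw [h]
  refine Finset.sum_congr rfl fun χ _ => ?_
  rw [Pi.smul_apply, smul_eq_mul,
    Characters.classInner_indFun S.X (S.psi j) (Characters.isClassFunction_of_isIrr χ.2),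
    Characters.classInner_conj_symm]
  exact congrArg (· * (χ : G → ℂ) g) (S.conj_cv χ j)

theorem part_eq_sum_psi {m : ZMod S.nil.n} (hm : m ≠ 0) :
    S.nil.part m = ∑ j, ((S.nil.n : ℂ)⁻¹ * ZMod.stdAddChar (-(j * m))) • S.psi j := by
  funext x
  rw [Finset.sum_apply]
  simp only [Pi.smul_apply, smul_eq_mul, CyclicDefect.Setup.psi, Pi.sub_apply, mul_sub,
    Finset.sum_sub_distrib]
  have h0 : ∑ j : ZMod S.nil.n,
      (S.nil.n : ℂ)⁻¹ * ZMod.stdAddChar (-(j * m)) * (S.nil.xi 0 : S.X → ℂ) x = 0 := by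
    rw [← Finset.sum_mul, ← Finset.mul_sum,
      Finset.sum_congr rfl fun j _ => by rw [show -(j * m) = j * (-m) by ring],
      AddChar.sum_mulShift _ (ZMod.isPrimitive_stdAddChar _), if_neg (neg_ne_zero.2 hm),
      Nat.cast_zero, mul_zero, zero_mul]
  rw [h0, sub_zero, Finset.sum_congr rfl fun j _ => mul_assoc _ _ _, ← Finset.mul_sum,
    ← S.nil.part_eq_sum, ← mul_assoc, inv_mul_cancel₀ (Nat.cast_ne_zero.2 (NeZero.ne S.nil.n)), one_mul]

theorem sect_of_part_ne_zero {m : ZMod S.nil.n} (hm : m ≠ 0) {x : S.X}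
    (h : S.nil.part m x ≠ 0) : S.Sect x := by
  rw [part_eq_sum_psi S hm, Finset.sum_apply] at h
  obtain ⟨j, -, hj⟩ := Finset.exists_ne_zero_of_sum_ne_zero h
  exact S.psi_supp (right_ne_zero_of_mul hj)

theorem part_div_centralizer {m : ZMod S.nil.n} (hm : m ≠ 0) (x : S.X) :
    Cfsg.MemLocalRing M ((S.nil.n : ℂ) * S.nil.part m x /
      (Nat.card (Subgroup.centralizer ({(x : G)} : Set G)) : ℂ)) := by
  by_cases h : S.nil.part m x = 0
  · rw [h, mul_zero, zero_div]
    exact Subring.zero_mem (localRing M)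
  · have hs := sect_of_part_ne_zero S hm h
    have hle : Subgroup.centralizer ({(x : G)} : Set G) ≤ S.X := by
      refine le_trans ?_ (S.sect_hC hs _ (S.isPPart_coe (Star.pPart_spec (p := p) x)))
      intro c hc
      rw [Subgroup.mem_centralizer_singleton_iff] at hc ⊢
      obtain ⟨i, hi⟩ := Star.pPart_mem_zpowers (p := p) x
      rw [← congrArg Subtype.val hi, SubgroupClass.coe_zpow]
      exact (Commute.zpow_right hc i).eq
    have hcard : Nat.card (Subgroup.centralizer ({(x : G)} : Set G)) =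
        Nat.card (Subgroup.centralizer ({x} : Set S.X)) := by
      rw [← Nat.card_congr (Subgroup.subgroupOfEquivOfLe hle).toEquiv]
      congr 1
      refine congrArg (fun K : Subgroup S.X => ↥K) ?_
      ext c
      rw [Subgroup.mem_subgroupOf, Subgroup.mem_centralizer_singleton_iff,
        Subgroup.mem_centralizer_singleton_iff, ← Subgroup.coe_mul, ← Subgroup.coe_mul,
        SetLike.coe_eq_coe]
    rw [hcard]
    exact part_div_mem S.nil m x

open Classical in
/-- The data of the block. -/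
theorem exists_data : Nonempty (CycData p M S.nil.n S.e B) := by
  obtain ⟨-, XF, YF, δ, ι, hun, hdis, hXc, hYc, hδ, hX, hY, huniq⟩ := S.exists_rows
  have hdd : ∀ χ, (δ χ : ℂ) * (δ χ : ℂ) = 1 := fun χ => by rcases hδ χ with h | h <;> simp [h]
  choose ψf hψf hιψ huψ using huniq
  obtain ⟨q₀⟩ : Nonempty S.Col := by
    obtain ⟨q⟩ := (good_setup S).col_nonempty
      (by rw [S.n_eq]; exact Nat.one_lt_pow (by have := S.a_pos; omega) hp.out.one_lt)
    obtain ⟨j, hj, -⟩ := exists_colOf q
    exact ⟨Quotient.mk S.orbSetoid ⟨j, hj⟩⟩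
  have hreg : ∀ g : G, ¬ p ∣ orderOf g → ∀ q, (δ (ψf q) : ℂ) * (ψf q : G → ℂ) g +
      ∑ χ ∈ XF, (δ χ : ℂ) * (χ : G → ℂ) g = 0 := by
    intro g hg q
    have h := S.sum_col_regular q hg
    rw [← hun, Finset.sum_union hdis,
      Finset.sum_congr rfl (g := fun χ => (δ χ : ℂ) * (χ : G → ℂ) g) fun χ hχ => by rw [hX χ hχ],
      Finset.sum_eq_single (ψf q) (fun φ hφ hne => by
        rw [hY φ hφ, if_neg fun h' => hne (huψ q φ hφ h'.symm)]
        simp) (fun hn => absurd (hψf q) hn), hY _ (hψf q), if_pos (hιψ q).symm] at h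
    rw [add_comm]
    exact h
  have hsame : ∀ q, δ (ψf q) = δ (ψf q₀) := by
    intro q
    have h1 : ¬ p ∣ orderOf (1 : G) := by rw [orderOf_one]; exact hp.out.not_dvd_one
    have hq := hreg 1 h1 q
    have hq0 := hreg 1 h1 q₀
    simp only [← Blocks.charDegree_cast] at hq hq0
    have e : δ (ψf q) * (Cfsg.charDegree (ψf q : G → ℂ) : ℤ) =
        δ (ψf q₀) * (Cfsg.charDegree (ψf q₀ : G → ℂ) : ℤ) := by
      exact_mod_cast (add_right_cancel (hq.trans hq0.symm) :
        (δ (ψf q) : ℂ) * (Cfsg.charDegree (ψf q : G → ℂ) : ℂ) =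
          (δ (ψf q₀) : ℂ) * (Cfsg.charDegree (ψf q₀ : G → ℂ) : ℂ))
    have h2 := Nat.pos_of_ne_zero (Blocks.charDegree_ne_zero (ψf q))
    have h3 := Nat.pos_of_ne_zero (Blocks.charDegree_ne_zero (ψf q₀))
    rcases hδ (ψf q) with h | h <;> rcases hδ (ψf q₀) with h' | h' <;> rw [h, h'] at e <;>
      rw [h, h'] <;> omega
  have hψinj : Function.Injective ψf := fun q q' h => by rw [← hιψ q, h, hιψ q']
  let eX : Fin S.e ≃ XF := (Fintype.equivFinOfCardEq (by rw [Fintype.card_coe, hXc])).symm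
  let eQ : S.Col ≃ Col S.nil.n S.e := Equiv.ofBijective _ (colMap_bijective S)
  let lab : Fin S.e ⊕ Col S.nil.n S.e → IrrCharacter G :=
    Sum.elim (fun k => (eX k : IrrCharacter G)) fun q => ψf (eQ.symm q)
  have hYmem : ∀ ψ ∈ YF, ψf (ι ψ) = ψ := fun ψ hψ => (huψ _ ψ hψ rfl).symm
  refine ⟨⟨lab, ⟨?_, ?_, ?_⟩, fun k => δ (eX k), δ (ψf q₀), fun k => hδ _, hδ _, ?_, ?_⟩⟩
  · rintro (k | q) -
    · exact Set.mem_toFinset.1 (hun ▸ Finset.mem_union_left _ (eX k).2)
    · exact Set.mem_toFinset.1 (hun ▸ Finset.mem_union_right _ (hψf _))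
  · rintro (k | q) - (k' | q') - h
    · exact congrArg Sum.inl (eX.injective (Subtype.ext h))
    · exact absurd (hψf (eQ.symm q')) (fun hh => Finset.disjoint_left.1 hdis (eX k).2
        (by rw [show (eX k : IrrCharacter G) = ψf (eQ.symm q') from h]; exact hh))
    · exact absurd (hψf (eQ.symm q)) (fun hh => Finset.disjoint_left.1 hdis (eX k').2
        (by rw [show (eX k' : IrrCharacter G) = ψf (eQ.symm q) from h.symm]; exact hh))
    · exact congrArg Sum.inr (eQ.symm.injective (hψinj h))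
  · intro χ hχ
    rw [← Set.mem_toFinset, ← hun, Finset.mem_union] at hχ
    rcases hχ with h | h
    · exact ⟨Sum.inl (eX.symm ⟨χ, h⟩), Set.mem_univ _, by simp [lab]⟩
    · exact ⟨Sum.inr (eQ (ι χ)), Set.mem_univ _, by simp [lab, hYmem χ h]⟩
  · intro g hg q
    rw [← hreg g hg (eQ.symm q)]
    congr 1
    · rw [hsame (eQ.symm q)]; rfl
    exact (Equiv.sum_comp eX (fun χ : XF => (δ χ.1 : ℂ) * (χ.1 : G → ℂ) g)).trans
      (Finset.sum_coe_sort XF fun χ => (δ χ : ℂ) * (χ : G → ℂ) g)
  intro g hg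
  -- the signed values of the exceptional members
  let aval : S.Col → ℂ := fun q => (δ (ψf q₀) : ℂ) * (ψf q : G → ℂ) g
  have hconst : ∀ χ ∈ XF, (δ χ : ℂ) * (χ : G → ℂ) g = ∑ q, aval q := by
    intro χ hχ
    let v : IrrCharacter G → ℂ := fun φ =>
      (if φ = χ then (δ χ : ℂ) else 0) - if φ ∈ YF then (δ φ : ℂ) else 0
    have hsum : ∀ f : IrrCharacter G → ℂ, ∑ φ ∈ B.toFinset, v φ * f φ =
        (δ χ : ℂ) * f χ - ∑ q, (δ (ψf q) : ℂ) * f (ψf q) := fun f => by
      simp only [v, sub_mul, ite_mul, zero_mul, Finset.sum_sub_distrib, Finset.sum_ite_eq', ← hun,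
        Finset.mem_union, hχ, true_or, if_true]
      congr 1
      rw [← Finset.sum_filter, show (XF ∪ YF).filter (fun φ => φ ∈ YF) = YF from by
        ext; simp +contextual]
      exact Finset.sum_bij' (fun φ _ => ι φ) (fun q _ => ψf q) (fun _ _ => Finset.mem_univ _)
        (fun q _ => hψf q) (fun φ hφ => hYmem φ hφ) (fun q _ => hιψ q)
        (fun φ hφ => by rw [hYmem φ hφ])
    have h := S.sum_eq_zero_singular v (fun j => by
      rw [hsum fun φ => S.cv φ j]
      by_cases hj : j = 0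
      · simp [hj, S.cv_zero]
      set q₁ := Quotient.mk S.orbSetoid ⟨j, hj⟩
      simp only [S.cv_eq_col _ hj, hX χ hχ]
      rw [Finset.sum_eq_single q₁ (fun q _ hne => by
        rw [hY _ (hψf q), hιψ, if_neg (Ne.symm hne), Int.cast_zero, mul_zero])
        (fun hn => absurd (Finset.mem_univ _) hn), hY _ (hψf q₁), hιψ, if_pos rfl, hdd, hdd,
        sub_self]) hg
    rw [hsum fun φ => (φ : G → ℂ) g, sub_eq_zero] at h
    rw [h]
    exact Finset.sum_congr rfl fun q _ => by simp only [aval, hsame q]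
  let F : ZMod S.nil.n → ℂ := fun j => Cfsg.indFun S.X (S.psi j) g
  have hF0 : F 0 = 0 := by
    simp only [F, indFun_psi, S.cv_zero, zero_mul, Finset.sum_const_zero]
  have hF : ∀ {j : ZMod S.nil.n} (hj : j ≠ 0), F j =
      (S.e : ℂ) * (∑ q, aval q) + aval (Quotient.mk S.orbSetoid ⟨j, hj⟩) := by
    intro j hj
    simp only [F, indFun_psi]
    rw [← hun, Finset.sum_union hdis]
    congr 1
    · rw [Finset.sum_congr rfl (g := fun _ => ∑ q, aval q) fun χ hχ => by
        rw [S.cv_eq_col χ hj, hX χ hχ, hconst χ hχ], Finset.sum_const, hXc, nsmul_eq_mul]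
    · set q₁ := Quotient.mk S.orbSetoid ⟨j, hj⟩
      rw [Finset.sum_eq_single (ψf q₁) (fun φ hφ hne => by
        rw [S.cv_eq_col φ hj, hY φ hφ, if_neg fun h' => hne (huψ q₁ φ hφ h'.symm), Int.cast_zero,
          zero_mul]) (fun hn => absurd (hψf q₁) hn), S.cv_eq_col _ hj, hY _ (hψf q₁), hιψ,
        if_pos rfl, hsame q₁]
  let t : ZMod S.nil.n → ℂ := fun m => if m = 0 then 0 else Cfsg.indFun S.X (S.nil.part m) g
  have ht : ∀ {m : ZMod S.nil.n}, m ≠ 0 →
      t m = (S.nil.n : ℂ)⁻¹ * ∑ j, ZMod.stdAddChar (-(j * m)) * F j := by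
    intro m hm
    simp only [t, if_neg hm, part_eq_sum_psi S hm, Characters.indFun_sum, Finset.mul_sum,
      Finset.sum_apply, Characters.indFun_smul, Pi.smul_apply, smul_eq_mul, F, mul_assoc]
  have hsumF : ∑ j, F j = (S.nil.n : ℂ) * ((S.e : ℂ) * ∑ q, aval q) := by
    have hq : ∀ j : {j : ZMod S.nil.n // j ≠ 0}, F j.1 =
        (S.e : ℂ) * (∑ q, aval q) + aval (Quotient.mk S.orbSetoid j) := fun j => hF j.2
    rw [← Finset.sum_filter_add_sum_filter_not Finset.univ (fun j : ZMod S.nil.n => j ≠ 0),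
      Finset.sum_subtype (p := fun j : ZMod S.nil.n => j ≠ 0) _ (by simp) F,
      Finset.sum_congr rfl fun j _ => hq j, Finset.sum_add_distrib,
      Finset.sum_eq_zero (s := Finset.filter (fun j : ZMod S.nil.n => ¬ j ≠ 0) _) fun j hj => by
        rw [not_not.1 (Finset.mem_filter.1 hj).2, hF0], add_zero]
    have h2 : ∑ j : {j : ZMod S.nil.n // j ≠ 0}, aval (Quotient.mk S.orbSetoid j) =
        (S.e : ℂ) * ∑ q, aval q := by
      have e := sum_col (n := S.nil.n) S.e_pos (fun j =>
        if hj : j ≠ 0 then aval (Quotient.mk S.orbSetoid ⟨j, hj⟩) else 0)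
      rw [Finset.sum_subtype (p := fun j : ZMod S.nil.n => j ≠ 0) _ (by simp)] at e
      rw [Finset.sum_congr rfl fun (j : {j : ZMod S.nil.n // j ≠ 0}) _ => dif_pos j.2] at e
      rw [← e, ← eQ.sum_comp, Finset.mul_sum]
      refine Finset.sum_congr rfl fun q _ => ?_
      have hmem : ∀ j ∈ (eQ q).1, ∃ hj : j ≠ 0, Quotient.mk S.orbSetoid ⟨j, hj⟩ = q :=
        fun j hj => by
          obtain ⟨hj0, hc⟩ := (mem_col_iff S.e_pos _).1 hj
          exact ⟨hj0, (colMap_bijective S).1 ((colMap_mk S hj0).trans hc)⟩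
      rw [Finset.sum_congr rfl (g := fun _ => aval q) fun j hj => by
        obtain ⟨hj0, hc⟩ := hmem j hj
        rw [dif_pos hj0, hc]]
      obtain ⟨j, hj, hc⟩ := exists_colOf (eQ q)
      rw [← hc, (good_setup S).sum_orb hj, Finset.sum_const, (good_setup S).card, nsmul_eq_mul]
    rw [h2, Finset.sum_const, Finset.card_univ, Fintype.card_subtype_compl, ZMod.card,
      Fintype.card_subtype_eq, nsmul_eq_mul, Nat.cast_sub (NeZero.pos S.nil.n), Nat.cast_one]
    ring
  have hinv : ∀ {j : ZMod S.nil.n} (hj : j ≠ 0), ∑ m, t m * ZMod.stdAddChar (j * m) =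
      aval (Quotient.mk S.orbSetoid ⟨j, hj⟩) := by
    intro j hj
    rw [← Finset.sum_filter_add_sum_filter_not Finset.univ (fun m : ZMod S.nil.n => m ≠ 0),
      Finset.sum_eq_zero (s := Finset.filter (fun m : ZMod S.nil.n => ¬ m ≠ 0) _) fun m hm => by
        simp [t, not_not.1 (Finset.mem_filter.1 hm).2], add_zero,
      Finset.sum_congr rfl fun m hm => by
        rw [ht (Finset.mem_filter.1 hm).2, Finset.mul_sum, Finset.sum_mul],
      Finset.sum_comm, Finset.sum_congr rfl (g := fun i => (S.nil.n : ℂ)⁻¹ * F i *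
        ((if j - i = 0 then (S.nil.n : ℂ) else 0) - 1)) fun i _ => by
        rw [← sum_stdAddChar_nonzero, Finset.mul_sum]
        refine Finset.sum_congr rfl fun m _ => ?_
        rw [show m * (j - i) = -(i * m) + j * m by ring, AddChar.map_add_eq_mul]
        ring]
    simp only [mul_sub, mul_ite, mul_zero, sub_eq_zero, Finset.sum_sub_distrib, mul_one,
      Finset.sum_ite_eq, Finset.mem_univ, if_true, ← Finset.mul_sum, hsumF]
    rw [hF hj]
    field_simp [(Nat.cast_ne_zero.2 (NeZero.ne S.nil.n))]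
    ring
  have hqval : ∀ q : Col S.nil.n S.e,
      aval (eQ.symm q) = ∑ m, t m * (S.e : ℂ)⁻¹ * emat m q := by
    intro q
    obtain ⟨j, hj, rfl⟩ := exists_colOf q
    have h1 : eQ.symm (colOf S.e hj) = Quotient.mk S.orbSetoid ⟨j, hj⟩ :=
      eQ.injective (by rw [eQ.apply_symm_apply]; exact (colMap_mk S hj).symm)
    rw [h1]
    simp only [emat, Finset.mul_sum]
    rw [Finset.sum_comm, Finset.sum_congr rfl (g := fun _ =>
      (S.e : ℂ)⁻¹ * aval (Quotient.mk S.orbSetoid ⟨j, hj⟩)) fun i hi => by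
      obtain ⟨hi0, hc⟩ := (mem_col_iff S.e_pos _).1 hi
      rw [← (colMap_bijective S).1 (((colMap_mk S hi0).trans hc).trans (colMap_mk S hj).symm),
        ← hinv hi0, Finset.mul_sum]
      exact Finset.sum_congr rfl fun m _ => by ring]
    rw [(good_setup S).sum_orb hj, Finset.sum_const, (good_setup S).card, nsmul_eq_mul, ← mul_assoc,
      mul_inv_cancel₀ (Nat.cast_ne_zero.2 S.e_pos.ne'), one_mul]
  refine ⟨fun m => t m * (S.e : ℂ)⁻¹, by simp [t], fun m => ?_, fun q => ?_, fun k => ?_⟩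
  · have he : Cfsg.MemLocalRing M ((S.e : ℂ)⁻¹) :=
      Blocks.memLocalRing_natCast_inv S.mod (not_dvd_e S)
    by_cases hm : m = 0
    · simp only [t, if_pos hm, zero_mul, mul_zero, zero_div]
      exact ⟨Subring.zero_mem (localRing M), Subring.zero_mem (localRing M)⟩
    simp only [t, if_neg hm]
    refine ⟨Subring.mul_mem (localRing M) (memLocalRing_indFun S.X (S.nil.part_classFun m) g
      fun x _ => S.nil.part_mem m x) he, ?_⟩
    rw [← mul_assoc, mul_div_right_comm]
    refine Subring.mul_mem (localRing M) ?_ he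
    set c : ℂ := (S.nil.n : ℂ) / (Nat.card (Subgroup.centralizer ({g} : Set G)) : ℂ)
    rw [mul_div_right_comm, show c * Cfsg.indFun S.X (S.nil.part m) g =
      Cfsg.indFun S.X (c • S.nil.part m) g from by rw [Characters.indFun_smul]; rfl]
    refine memLocalRing_indFun S.X (fun a b => ?_) g fun x hx => ?_
    · simp only [Pi.smul_apply, S.nil.part_classFun m a b]
    · show Cfsg.MemLocalRing M (c * S.nil.part m x)
      simp only [c]
      rw [← centralizer_card_of_isConj hx, div_mul_eq_mul_div]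
      exact part_div_centralizer S hm x
  all_goals simp only [lab, Sum.elim_inl, Sum.elim_inr]
  · exact hqval q
  · rw [hconst _ (eX k).2]
    calc ∑ q, aval q = ∑ q : Col S.nil.n S.e, ∑ m, t m * (S.e : ℂ)⁻¹ * emat m q := by
          rw [← eQ.symm.sum_comp]
          exact Finset.sum_congr rfl fun q _ => hqval q
      _ = _ := by
          rw [Finset.sum_comm, ← Finset.sum_neg_distrib]
          refine Finset.sum_congr rfl fun m _ => ?_
          rw [← Finset.mul_sum]
          by_cases hm : m = 0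
          · simp [t, hm]
          · rw [sum_emat S.e_pos hm, mul_neg, mul_one]

end CfsgLib.CyclicIsometry
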