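import Mathlib

/-!
# Orbits of the roots of unity of order prime to p on the residues modulo a prime power

`Col n e` is the set of orbits of the `e`-th roots of unity on the non-zero residues modulo `n`,
and `emat m q` is the sum of the additive character at `m` over the orbit `q`.
-/

set_option autoImplicit false
set_option linter.style.haveILetI false

namespace CfsgLib.CyclicIsometry

variable {n e : ℕ} [NeZero n]

/-- The solutions of `u ^ e = 1`. -/
def roots (n e : ℕ) [NeZero n] : Finset (ZMod n) := Finset.univ.filter fun u => u ^ e = 1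

/-- The orbit of a residue. -/
def orb (n e : ℕ) [NeZero n] (j : ZMod n) : Finset (ZMod n) := (roots n e).image (· * j)

/-- The orbits on the non-zero residues. -/
abbrev Col (n e : ℕ) [NeZero n] : Type :=
  ↥((Finset.univ.filter fun j : ZMod n => j ≠ 0).image (orb n e))

theorem mem_roots {u : ZMod n} : u ∈ roots n e ↔ u ^ e = 1 := by simp [roots]

theorem one_mem_roots : (1 : ZMod n) ∈ roots n e := mem_roots.2 (one_pow e)

theorem mul_mem_roots {u v : ZMod n} (hu : u ∈ roots n e) (hv : v ∈ roots n e) :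
    u * v ∈ roots n e := mem_roots.2 (by rw [mul_pow, mem_roots.1 hu, mem_roots.1 hv, one_mul])

/-- The column of a non-zero residue. -/
def colOf (e : ℕ) {j : ZMod n} (hj : j ≠ 0) : Col n e :=
  ⟨orb n e j, Finset.mem_image.2 ⟨j, by simp [hj], rfl⟩⟩

theorem exists_colOf (q : Col n e) : ∃ (j : ZMod n) (hj : j ≠ 0), colOf e hj = q := by
  obtain ⟨j, hj, h⟩ := Finset.mem_image.1 q.2
  exact ⟨j, (Finset.mem_filter.1 hj).2, Subtype.ext h⟩

/-- The sum of the additive character over an orbit. -/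
noncomputable def emat (m : ZMod n) (q : Col n e) : ℂ := ∑ j ∈ q.1, ZMod.stdAddChar (j * m)

theorem isUnit_of_pow_eq_one (he : 0 < e) {u : ZMod n} (hu : u ∈ roots n e) : IsUnit u :=
  IsUnit.of_pow_eq_one (mem_roots.1 hu) he.ne'

theorem mul_ne_zero_of_root (he : 0 < e) {u j : ZMod n} (hu : u ∈ roots n e) (hj : j ≠ 0) :
    u * j ≠ 0 := fun h => hj ((isUnit_of_pow_eq_one he hu).mul_right_eq_zero.1 h)

theorem orb_eq_of_mem (he : 0 < e) {j k : ZMod n} (h : k ∈ orb n e j) :
    orb n e k = orb n e j := by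
  obtain ⟨u, hu, rfl⟩ := Finset.mem_image.1 h
  have hinv : u * u ^ (e - 1) = 1 := by
    rw [← pow_succ', Nat.sub_add_cancel he, mem_roots.1 hu]
  ext x
  simp only [orb, Finset.mem_image]
  constructor
  · rintro ⟨v, hv, rfl⟩
    exact ⟨v * u, mul_mem_roots hv hu, mul_assoc _ _ _⟩
  · rintro ⟨v, hv, rfl⟩
    refine ⟨v * u ^ (e - 1), mul_mem_roots hv (mem_roots.2 ?_), ?_⟩
    · rw [← pow_mul, mul_comm, pow_mul, mem_roots.1 hu, one_pow]
    · rw [mul_assoc, ← mul_assoc (u ^ (e - 1)), mul_comm (u ^ (e - 1)) u, hinv, one_mul]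

theorem self_mem_orb (j : ZMod n) : j ∈ orb n e j :=
  Finset.mem_image.2 ⟨1, one_mem_roots, one_mul j⟩

theorem mem_col_iff (he : 0 < e) {j : ZMod n} (q : Col n e) :
    j ∈ q.1 ↔ ∃ hj : j ≠ 0, colOf e hj = q := by
  constructor
  · intro h
    obtain ⟨k, hk, rfl⟩ := exists_colOf q
    obtain ⟨u, hu, rfl⟩ := Finset.mem_image.1 h
    exact ⟨mul_ne_zero_of_root he hu hk, Subtype.ext (orb_eq_of_mem he h)⟩
  · rintro ⟨hj, rfl⟩
    exact self_mem_orb j

theorem colOf_eq_iff (he : 0 < e) {j k : ZMod n} (hj : j ≠ 0) (hk : k ≠ 0) :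
    colOf e hj = colOf e hk ↔ ∃ u ∈ roots n e, u * j = k := by
  constructor
  · intro h
    have h1 : k ∈ orb n e j := by
      rw [show orb n e j = orb n e k from congrArg Subtype.val h]
      exact self_mem_orb k
    exact Finset.mem_image.1 h1
  · rintro ⟨u, hu, rfl⟩
    exact (Subtype.ext (orb_eq_of_mem he (Finset.mem_image.2 ⟨u, hu, rfl⟩))).symm

/-- A sum over the columns of sums over their members. -/
theorem sum_col (he : 0 < e) {A : Type*} [AddCommMonoid A] (f : ZMod n → A) :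
    ∑ q : Col n e, ∑ j ∈ q.1, f j = ∑ j ∈ Finset.univ.filter (fun j : ZMod n => j ≠ 0), f j := by
  classical
  rw [← Finset.sum_biUnion]
  · refine Finset.sum_congr (Finset.ext fun j => ?_) fun _ _ => rfl
    simp only [Finset.mem_biUnion, Finset.mem_univ, true_and, Finset.mem_filter, mem_col_iff he]
    exact ⟨fun ⟨q, hj, _⟩ => hj, fun hj => ⟨colOf e hj, hj, rfl⟩⟩
  · intro q _ q' _ hne
    rw [Function.onFun, Finset.disjoint_left]
    intro j hj hj'
    obtain ⟨h1, h2⟩ := (mem_col_iff he q).1 hj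
    obtain ⟨_, h4⟩ := (mem_col_iff he q').1 hj'
    exact hne (h2.symm.trans h4)

theorem sum_stdAddChar_nonzero (m : ZMod n) :
    ∑ j ∈ Finset.univ.filter (fun j : ZMod n => j ≠ 0), (ZMod.stdAddChar (j * m) : ℂ) =
      (if m = 0 then (n : ℂ) else 0) - 1 := by
  classical
  have h := AddChar.sum_mulShift m (ZMod.isPrimitive_stdAddChar n)
  rw [← Finset.sum_filter_add_sum_filter_not Finset.univ (fun j : ZMod n => j = 0)] at h
  simp only [Finset.filter_eq', Finset.mem_univ, if_true, Finset.sum_singleton, zero_mul,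
    AddChar.map_zero_eq_one, ZMod.card, apply_ite (Nat.cast : ℕ → ℂ), Nat.cast_zero] at h
  rw [← h]
  simp

theorem sum_emat (he : 0 < e) {m : ZMod n} (hm : m ≠ 0) : ∑ q : Col n e, emat m q = -1 := by
  rw [show ∑ q : Col n e, emat m q = _ from sum_col he fun j => (ZMod.stdAddChar (j * m) : ℂ),
    sum_stdAddChar_nonzero, if_neg hm, zero_sub]

/-- The roots act freely and there are `e` of them. -/
structure Good (n e : ℕ) [NeZero n] : Prop where
  pos : 0 < e
  card : (roots n e).card = e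
  free : ∀ u ∈ roots n e, u ≠ 1 → IsUnit (u - 1)

theorem Good.injOn (hg : Good n e) {j : ZMod n} (hj : j ≠ 0) :
    Set.InjOn (fun u => u * j) (roots n e) := by
  intro u hu v hv h
  have h' : u * j = v * j := h
  by_contra hne
  have hv' : v * v ^ (e - 1) = 1 := by
    rw [← pow_succ', Nat.sub_add_cancel hg.pos, mem_roots.1 hv]
  have hw : u * v ^ (e - 1) ∈ roots n e := mul_mem_roots hu (mem_roots.2 (by
    rw [← pow_mul, mul_comm, pow_mul, mem_roots.1 hv, one_pow]))
  have hw1 : u * v ^ (e - 1) ≠ 1 := fun h1 => hne (by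
    calc u = u * (v * v ^ (e - 1)) := by rw [hv', mul_one]
      _ = v * (u * v ^ (e - 1)) := by ring
      _ = v := by rw [h1, mul_one])
  refine hj ((hg.free _ hw hw1).mul_right_eq_zero.1 ?_)
  calc (u * v ^ (e - 1) - 1) * j = u * j * v ^ (e - 1) - j := by ring
    _ = v * j * v ^ (e - 1) - j := by rw [h']
    _ = j * (v * v ^ (e - 1)) - j := by ring
    _ = 0 := by rw [hv', mul_one, sub_self]

theorem Good.sum_orb (hg : Good n e) {A : Type*} [AddCommMonoid A] {j : ZMod n} (hj : j ≠ 0)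
    (f : ZMod n → A) : ∑ k ∈ (colOf e hj).1, f k = ∑ u ∈ roots n e, f (u * j) :=
  Finset.sum_image (hg.injOn hj)

theorem Good.card_col (hg : Good n e) : e * Fintype.card (Col n e) = n - 1 := by
  classical
  have h := sum_col hg.pos (fun _ : ZMod n => (1 : ℕ))
  rw [Finset.sum_congr rfl (g := fun _ => e) (fun q _ => by
    obtain ⟨j, hj, rfl⟩ := exists_colOf q
    rw [hg.sum_orb hj, Finset.sum_const, smul_eq_mul, mul_one, hg.card]), Finset.sum_const,
    Finset.card_univ, smul_eq_mul, Finset.sum_const, smul_eq_mul, mul_one] at h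
  rw [mul_comm, h, Finset.filter_ne', Finset.card_erase_of_mem (Finset.mem_univ _), Finset.card_univ,
    ZMod.card]

/-- The orthogonality relation of the orbit sums. -/
theorem Good.exists_pair (hg : Good n e) (m m' : ZMod n) :
    ∃ z : ℤ, (e : ℂ) + ∑ q : Col n e, emat m q * emat m' q = (n : ℂ) * z := by
  classical
  refine ⟨((roots n e).filter fun u => m + u * m' = 0).card, ?_⟩
  have h : ∑ q : Col n e, emat m q * emat m' q =
      ∑ j ∈ Finset.univ.filter (fun j : ZMod n => j ≠ 0),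
        ∑ u ∈ roots n e, (ZMod.stdAddChar (j * (m + u * m')) : ℂ) := by
    rw [← sum_col hg.pos]
    refine Finset.sum_congr rfl fun q _ => ?_
    rw [emat, Finset.sum_mul]
    refine Finset.sum_congr rfl fun j hj => ?_
    obtain ⟨hj0, rfl⟩ := (mem_col_iff hg.pos q).1 hj
    rw [emat, hg.sum_orb hj0, Finset.mul_sum]
    refine Finset.sum_congr rfl fun u _ => ?_
    rw [← AddChar.map_add_eq_mul]
    congr 1
    ring
  rw [h, Finset.sum_comm]
  simp only [sum_stdAddChar_nonzero, Finset.sum_sub_distrib, Finset.sum_const, hg.card,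
    ← Finset.sum_filter, nsmul_eq_mul]
  push_cast
  ring

theorem Good.col_nonempty (_hg : Good n e) (hn : 1 < n) : Nonempty (Col n e) := by
  haveI : Fact (1 < n) := ⟨hn⟩
  exact ⟨colOf e (one_ne_zero : (1 : ZMod n) ≠ 0)⟩

section PrimePower

variable {p a : ℕ} [hp : Fact p.Prime]

theorem isUnit_of_castHom_ne_zero (ha : 1 ≤ a) {x : ZMod (p ^ a)}
    (h : ZMod.castHom (dvd_pow_self p (by omega : a ≠ 0)) (ZMod p) x ≠ 0) : IsUnit x := by
  haveI : NeZero (p ^ a) := ⟨pow_ne_zero _ hp.out.ne_zero⟩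
  rw [← ZMod.natCast_zmod_val x] at h ⊢
  rw [map_natCast, Ne, ZMod.natCast_eq_zero_iff] at h
  rw [ZMod.isUnit_iff_coprime]
  exact Nat.Coprime.pow_right _ (hp.out.coprime_iff_not_dvd.2 h).symm

theorem root_eq_one (ha : 1 ≤ a) (he : ¬ p ∣ e) {w : ZMod (p ^ a)} (hw : w ^ e = 1)
    (h1 : ZMod.castHom (dvd_pow_self p (by omega : a ≠ 0)) (ZMod p) w = 1) : w = 1 := by
  set φ := ZMod.castHom (dvd_pow_self p (by omega : a ≠ 0)) (ZMod p)
  have hs : IsUnit (∑ i ∈ Finset.range e, w ^ i) := by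
    refine isUnit_of_castHom_ne_zero ha ?_
    rw [map_sum, Finset.sum_congr rfl fun i _ => by rw [map_pow, h1, one_pow],
      Finset.sum_const, Finset.card_range, nsmul_eq_mul, mul_one]
    rwa [Ne, ZMod.natCast_eq_zero_iff]
  have h := mul_geom_sum w e
  rw [hw, sub_self] at h
  exact sub_eq_zero.1 (hs.mul_left_eq_zero.1 h)

theorem castHom_root_injOn (ha : 1 ≤ a) (hpe : ¬ p ∣ e) [NeZero (p ^ a)] :
    Set.InjOn (ZMod.castHom (dvd_pow_self p (by omega : a ≠ 0)) (ZMod p))
      (roots (p ^ a) e) := by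
  intro u hu v hv h
  have he : 0 < e := Nat.pos_of_ne_zero fun h0 => hpe (h0 ▸ dvd_zero p)
  set φ := ZMod.castHom (dvd_pow_self p (by omega : a ≠ 0)) (ZMod p)
  have hv' : v * v ^ (e - 1) = 1 := by
    rw [← pow_succ', Nat.sub_add_cancel he, mem_roots.1 hv]
  have hw : u * v ^ (e - 1) = 1 := by
    refine root_eq_one ha hpe ?_ ?_
    · rw [mul_pow, mem_roots.1 hu, one_mul, ← pow_mul, mul_comm, pow_mul, mem_roots.1 hv, one_pow]
    · show φ (u * v ^ (e - 1)) = 1
      rw [map_mul, h, ← map_mul, hv', map_one]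
  calc u = u * (v * v ^ (e - 1)) := by rw [hv', mul_one]
    _ = v * (u * v ^ (e - 1)) := by ring
    _ = v := by rw [hw, mul_one]

/-- `e` distinct roots are all of them. -/
theorem good_of_le (ha : 1 ≤ a) (hpe : ¬ p ∣ e) [NeZero (p ^ a)]
    (h : e ≤ (roots (p ^ a) e).card) : Good (p ^ a) e := by
  classical
  have he : 0 < e := Nat.pos_of_ne_zero fun h0 => hpe (h0 ▸ dvd_zero p)
  refine ⟨he, le_antisymm ?_ h, fun u hu h1 => isUnit_of_castHom_ne_zero ha ?_⟩
  · rw [← Finset.card_image_of_injOn (castHom_root_injOn ha hpe)]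
    refine le_trans (Finset.card_le_card (t := (Polynomial.nthRoots e (1 : ZMod p)).toFinset) ?_) ?_
    · intro x hx
      obtain ⟨u, hu, rfl⟩ := Finset.mem_image.1 hx
      rw [Multiset.mem_toFinset, Polynomial.mem_nthRoots he, ← map_pow, mem_roots.1 hu, map_one]
    · exact (Multiset.toFinset_card_le _).trans (Polynomial.card_nthRoots _ _)
  · rw [map_sub, map_one, sub_ne_zero]
    exact fun h' => h1 (root_eq_one ha hpe (mem_roots.1 hu) h')

theorem good_of_eq_pow {n : ℕ} [NeZero n] (hn : n = p ^ a) (ha : 1 ≤ a) (hpe : ¬ p ∣ e)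
    (h : e ≤ (roots n e).card) : Good n e := by
  subst hn
  exact good_of_le ha hpe h

end PrimePower

end CfsgLib.CyclicIsometry
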